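import Mathlib
import Cfsg.Agent.EqLemmas

/-!
# Invariant sets of involutions with all products of order 1, 2 or `p` (owner: helper81)

`Ctx p D`: `D` is a conjugation-invariant set of involutions of `G` in which any two non-commuting
members have product of order the prime `p ≥ 5`.
-/

set_option autoImplicit false
set_option linter.unusedSectionVars false
set_option linter.unusedVariables false

namespace Cfsg.Agent.TwoPInvol

/-- Invariant set of involutions, non-commuting products having order `p ≥ 5`. -/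
structure Ctx {G : Type*} [Group G] (p : ℕ) (D : Set G) : Prop where
  prime : p.Prime
  five : 5 ≤ p
  sq : ∀ d ∈ D, d * d = 1
  ne_one : ∀ d ∈ D, d ≠ 1
  conj : ∀ g, ∀ d ∈ D, g * d * g⁻¹ ∈ D
  ord : ∀ a ∈ D, ∀ b ∈ D, Commute a b ∨ orderOf (a * b) = p

variable {G : Type*} [Group G] {p : ℕ} {D : Set G}

theorem commute_iff_sq {a b : G} (ha : a * a = 1) (hb : b * b = 1) :
    Commute a b ↔ (a * b) ^ 2 = 1 := by
  constructor
  · intro h
    rw [sq]
    calc a * b * (a * b) = a * (b * a) * b := by group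
      _ = a * (a * b) * b := by rw [h.eq]
      _ = (a * a) * (b * b) := by group
      _ = 1 := by rw [ha, hb, one_mul]
  · intro h
    rw [sq] at h
    have hai : a⁻¹ = a := inv_eq_of_mul_eq_one_right ha
    have hbi : b⁻¹ = b := inv_eq_of_mul_eq_one_right hb
    have : a * b = (a * b)⁻¹ := eq_inv_of_mul_eq_one_left h
    rw [mul_inv_rev, hai, hbi] at this
    exact this

theorem commute_conj_iff {a b : G} (g : G) :
    Commute (g * a * g⁻¹) (g * b * g⁻¹) ↔ Commute a b := by
  constructor
  · intro h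
    have := congrArg (fun z => g⁻¹ * z * g) h.eq
    simp only [mul_assoc, inv_mul_cancel_left, inv_mul_cancel, mul_one] at this
    simpa [Commute, SemiconjBy] using this
  · exact fun h => (Commute.map h (MulAut.conj g).toMonoidHom : _)

theorem eq_one_of_pow_prime_of_pow_ne {q r : ℕ} (hq : q.Prime) (hr : ¬ q ∣ r) {x : G}
    (h1 : x ^ q = 1) (h2 : x ^ r = 1) : x = 1 := by
  have h := pow_gcd_eq_one.2 ⟨h1, h2⟩
  rwa [(hq.coprime_iff_not_dvd.2 hr), pow_one] at h

namespace Ctx

variable (h : Ctx p D)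
include h

theorem inv {d : G} (hd : d ∈ D) : d⁻¹ = d := inv_eq_of_mul_eq_one_right (h.sq d hd)

theorem odd : Odd p := h.prime.odd_of_ne_two (by have := h.five; omega)

theorem conj' {a : G} (g : G) (hg : g * g = 1) (ha : a ∈ D) : g * a * g ∈ D := by
  have := h.conj g a ha
  rwa [inv_eq_of_mul_eq_one_right hg] at this

theorem conjD {a b : G} (ha : a ∈ D) (hb : b ∈ D) : a * b * a ∈ D := h.conj' a (h.sq a ha) hb

theorem order {a b : G} (ha : a ∈ D) (hb : b ∈ D) (hc : ¬ Commute a b) : orderOf (a * b) = p :=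
  (h.ord a ha b hb).resolve_left hc

theorem pow_eq {a b : G} (ha : a ∈ D) (hb : b ∈ D) (hc : ¬ Commute a b) : (a * b) ^ p = 1 := by
  rw [← h.order ha hb hc]; exact pow_orderOf_eq_one _

theorem mul_ne_one {a b : G} (ha : a ∈ D) (hb : b ∈ D) (hc : ¬ Commute a b) : a * b ≠ 1 := by
  intro h1
  apply hc
  rw [show b = a⁻¹ from eq_inv_of_mul_eq_one_right h1]
  exact (Commute.refl a).inv_right

theorem not_commute_of_pow {a b : G} (ha : a ∈ D) (hb : b ∈ D) (hne : a ≠ b)
    (hp : (a * b) ^ p = 1) : ¬ Commute a b := by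
  intro hc
  apply hne
  have h2 := (commute_iff_sq (h.sq a ha) (h.sq b hb)).1 hc
  have h1 := eq_one_of_pow_prime_of_pow_ne h.prime
    (fun hd => by have := Nat.le_of_dvd two_pos hd; have := h.five; omega) hp h2
  rw [mul_eq_one_iff_eq_inv, h.inv hb] at h1
  exact h1

/-- An element of order dividing `p` in a `2`-group is trivial. -/
theorem eq_one_of_two {N : Subgroup G} (hN : IsPGroup 2 N) {x : G} (hx : x ∈ N)
    (hp : x ^ p = 1) : x = 1 := by
  obtain ⟨k, hk⟩ := hN ⟨x, hx⟩
  have hk' : x ^ (2 ^ k) = 1 := by simpa using congrArg Subtype.val hk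
  refine eq_one_of_pow_prime_of_pow_ne h.prime (fun hd => ?_) hp hk'
  have := h.prime.dvd_of_dvd_pow hd
  have := Nat.le_of_dvd two_pos this
  have := h.five
  omega

/-- Non-commuting members are conjugate in the subgroup they generate. -/
theorem exists_conj {a b : G} (ha : a ∈ D) (hb : b ∈ D) (hc : ¬ Commute a b) :
    ∃ g ∈ Subgroup.closure ({a, b} : Set G), g * a * g⁻¹ = b := by
  obtain ⟨m, hm⟩ := h.odd
  refine ⟨(b * a) ^ (m + 1), Subgroup.pow_mem _ (Subgroup.mul_mem _
    (Subgroup.subset_closure (by simp)) (Subgroup.subset_closure (by simp))) _, ?_⟩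
  have hinv : ((b * a) ^ (m + 1))⁻¹ = (a * b) ^ (m + 1) := by
    rw [← inv_pow, mul_inv_rev, h.inv ha, h.inv hb]
  have hs : SemiconjBy a ((a * b) ^ (m + 1)) ((b * a) ^ (m + 1)) := by
    refine SemiconjBy.pow_right ?_ _
    show a * (a * b) = b * a * a
    rw [mul_assoc b a a, h.sq a ha, mul_one, ← mul_assoc, h.sq a ha, one_mul]
  rw [hinv, ← hs.eq, mul_assoc, ← pow_add, show m + 1 + (m + 1) = p + 1 by omega, pow_succ,
    h.pow_eq ha hb hc, one_mul, ← mul_assoc, h.sq a ha, one_mul]

/-- Members commuting with a product of two distinct commuting members commute with both. -/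
theorem cd {a b d : G} (ha : a ∈ D) (hb : b ∈ D) (hd : d ∈ D) (hne : a ≠ b)
    (hab : Commute a b) (hdu : Commute d (a * b)) : Commute d a ∧ Commute d b := by
  have key : (d * a) ^ 2 = (d * b) ^ 2 := by
    have h2 : a * d * a = b * d * b := by
      calc a * d * a = a * (d * (a * b)) * b := by
            rw [mul_assoc a, mul_assoc a, mul_assoc d (a * b) b, mul_assoc a b b, h.sq b hb,
              mul_one]
        _ = a * (a * b * d) * b := by rw [hdu.eq]
        _ = (a * a) * b * d * b := by group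
        _ = b * d * b := by rw [h.sq a ha, one_mul]
    calc (d * a) ^ 2 = d * (a * d * a) := by rw [pow_two]; group
      _ = d * (b * d * b) := by rw [h2]
      _ = (d * b) ^ 2 := by rw [pow_two]; group
  by_cases h1 : Commute d a
  · refine ⟨h1, ?_⟩
    rw [commute_iff_sq (h.sq d hd) (h.sq b hb), ← key, ← commute_iff_sq (h.sq d hd) (h.sq a ha)]
    exact h1
  by_cases h2 : Commute d b
  · exfalso
    apply h1
    rw [commute_iff_sq (h.sq d hd) (h.sq a ha), key,
      ← commute_iff_sq (h.sq d hd) (h.sq b hb)]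
    exact h2
  exfalso
  obtain ⟨m, hm⟩ := h.odd
  have e1 : ((d * a) ^ 2) ^ (m + 1) = d * a := by
    rw [← pow_mul, show 2 * (m + 1) = p + 1 by omega, pow_succ, h.pow_eq hd ha h1, one_mul]
  have e2 : ((d * b) ^ 2) ^ (m + 1) = d * b := by
    rw [← pow_mul, show 2 * (m + 1) = p + 1 by omega, pow_succ, h.pow_eq hd hb h2, one_mul]
  rw [key, e2] at e1
  exact hne (mul_left_cancel e1).symm

/-- Restriction to a subgroup. -/
theorem restrict (K : Subgroup G) : Ctx p ((K.subtype : ↥K → G) ⁻¹' D) where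
  prime := h.prime
  five := h.five
  sq d hd := Subtype.ext (h.sq _ hd)
  ne_one d hd h1 := h.ne_one _ hd (congrArg Subtype.val h1)
  conj g d hd := by simpa using h.conj (g : G) _ hd
  ord a ha b hb := by
    rcases h.ord _ ha _ hb with hc | ho
    · exact Or.inl (Subtype.ext hc)
    · right
      rw [← ho]
      exact (orderOf_injective K.subtype K.subtype_injective (a * b)).symm

theorem image_mem {N : Subgroup G} [N.Normal] {d : G} (hd : d ∈ D) (hN : d ∉ N) :
    (QuotientGroup.mk d : G ⧸ N) ∈ {q : G ⧸ N | q ≠ 1 ∧ ∃ e ∈ D, QuotientGroup.mk e = q} :=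
  ⟨fun h1 => hN ((QuotientGroup.eq_one_iff d).1 h1), d, hd, rfl⟩

/-- The non-trivial images form such a set in a quotient. -/
theorem quotient (N : Subgroup G) [N.Normal] :
    Ctx p {q : G ⧸ N | q ≠ 1 ∧ ∃ e ∈ D, QuotientGroup.mk e = q} where
  prime := h.prime
  five := h.five
  sq := by
    rintro q ⟨_, e, he, rfl⟩
    rw [← QuotientGroup.mk_mul, h.sq e he, QuotientGroup.mk_one]
  ne_one q hq := hq.1
  conj := by
    rintro g q ⟨hq, e, he, rfl⟩
    induction g using QuotientGroup.induction_on with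
    | _ g =>
      exact ⟨fun h1 => hq (conj_eq_one_iff.1 h1), g * e * g⁻¹, h.conj g e he, rfl⟩
  ord := by
    rintro a ⟨_, x, hx, rfl⟩ b ⟨_, y, hy, rfl⟩
    by_cases hc : Commute (QuotientGroup.mk x : G ⧸ N) (QuotientGroup.mk y)
    · exact Or.inl hc
    right
    have hxy : ¬ Commute x y := fun h1 => hc (h1.map (QuotientGroup.mk' N))
    rw [← QuotientGroup.mk_mul]
    refine (orderOf_eq_prime_iff (hp := ⟨h.prime⟩)).2 ⟨?_, fun h1 => hc ?_⟩
    · rw [← QuotientGroup.mk_pow, h.pow_eq hx hy hxy, QuotientGroup.mk_one]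
    · rw [QuotientGroup.mk_mul] at h1
      rw [eq_inv_of_mul_eq_one_right h1]
      exact (Commute.refl _).inv_right

end Ctx

end Cfsg.Agent.TwoPInvol
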