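import Cfsg.Agent.Lib.TwoPInvol.Edges
import Cfsg.Agent.Lib.Involution.Basic
import Cfsg.Agent.S0215
import Cfsg.Agent.Lib.OddOrderTheorem.Basic

/-!
# The block case, first part (owner: helper81)

`BlockCase`: a minimal counterexample in which commuting members are twins, and some two distinct members commute.
-/

set_option autoImplicit false
set_option linter.unusedSectionVars false
set_option linter.style.haveILetI false

namespace Cfsg.Agent.TwoPInvol

variable {G : Type*} [Group G] [Finite G] {p : ℕ} {D : Set G}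

theorem exists_pow_eq_of_not_dvd {H : Type*} [Group H] {q : ℕ} (hq : q.Prime) {z : H} (hz : z ^ q = 1)
    {i : ℕ} (hi : ¬ q ∣ i) : ∃ s : ℕ, (z ^ i) ^ s = z := by
  obtain ⟨s, _, hs⟩ := Nat.exists_mul_mod_eq_one_of_coprime
    ((hq.coprime_iff_not_dvd.2 hi).symm) hq.one_lt
  exact ⟨s, by rw [← pow_mul, pow_eq_pow_mod _ hz, hs, pow_one]⟩

/-- Invariance under a generated subgroup. -/
theorem conj_mem_of_closure {H : Type*} [Group H] {S M : Set H} (hS : ∀ g ∈ S, g * g = 1)
    (hM : ∀ g ∈ S, ∀ y ∈ M, g * y * g ∈ M) :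
    ∀ g ∈ Subgroup.closure S, ∀ y ∈ M, g * y * g⁻¹ ∈ M := by
  intro g hg
  refine (Subgroup.closure_induction
    (p := fun g _ => (∀ y ∈ M, g * y * g⁻¹ ∈ M) ∧ ∀ y ∈ M, g⁻¹ * y * g⁻¹⁻¹ ∈ M)
    ?_ ⟨fun y hy => by simpa using hy, fun y hy => by simpa using hy⟩ ?_ ?_ hg).1
  · intro g hg
    have hgi : g⁻¹ = g := inv_eq_of_mul_eq_one_right (hS g hg)
    exact ⟨fun y hy => by rw [hgi]; exact hM g hg y hy,
      fun y hy => by rw [hgi, hgi]; exact hM g hg y hy⟩
  · intro u v _ _ hu hv
    exact ⟨fun y hy => by simpa [mul_assoc] using hu.1 _ (hv.1 y hy),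
      fun y hy => by simpa [mul_assoc] using hv.2 _ (hu.2 y hy)⟩
  · intro u _ hu
    exact ⟨hu.2, fun y hy => by simpa using hu.1 y hy⟩

theorem even_card_of_involutive {α : Type*} {s : Finset α} (f : α → α) (hf : ∀ a ∈ s, f a ∈ s)
    (hff : ∀ a ∈ s, f (f a) = a) (hne : ∀ a ∈ s, f a ≠ a) : Even s.card := by
  have h : (∑ _a ∈ s, (1 : ZMod 2)) = 0 :=
    Finset.sum_involution (fun a _ => f a) (fun a _ => by decide) (fun a ha _ => hne a ha)
      (fun a ha => hf a ha) (fun a ha => hff a ha)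
  rw [Finset.sum_const, nsmul_one] at h
  exact even_iff_two_dvd.2 ((CharP.cast_eq_zero_iff (ZMod 2) 2 _).1 h)

/-- Blocks: a minimal counterexample in which commuting members are twins. -/
structure BlockCase {G : Type*} [Group G] (p : ℕ) (D : Set G) : Prop where
  min : Min p D
  twin : ∀ a ∈ D, ∀ b ∈ D, Commute a b → Tw D a b
  pair : ∃ a ∈ D, ∃ b ∈ D, a ≠ b ∧ Commute a b

theorem Min.toBlockCase (h : Min p D) (hne : D.Nonempty) : BlockCase p D := by
  have twin : ∀ a ∈ D, ∀ b ∈ D, Commute a b → Tw D a b := fun a ha b hb hab => by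
    by_contra ht
    exact h.no_edge ⟨ha, hb, hab, ht⟩
  refine ⟨h, twin, ?_⟩
  by_contra! hc
  haveI : Fact (Nat.Prime 2) := ⟨Nat.prime_two⟩
  obtain ⟨a, ha⟩ := hne
  have hord : orderOf a = 2 := Involution.orderOf_of_sq (h.ctx.sq a ha) (h.ctx.ne_one a ha)
  have hp : IsPGroup 2 ↥(Subgroup.zpowers a) := by
    refine IsPGroup.of_card (n := 1) ?_
    rw [pow_one, Nat.card_zpowers, hord]
  obtain ⟨P, hP⟩ := hp.exists_le_sylow
  have haP : a ∈ P := hP (Subgroup.mem_zpowers a)
  obtain ⟨N, hNn, hNodd, hN⟩ := Cfsg.Agent.S0215.result P a hord haP (fun g hg => by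
    have hD := h.ctx.conj g a ha
    by_cases hcm : Commute a (g * a * g⁻¹)
    · by_contra hne'
      exact hc a ha _ hD (fun e => hne' e.symm) hcm
    exfalso
    exact h.ctx.mul_ne_one ha hD hcm
      (h.ctx.eq_one_of_two P.isPGroup' (P.mul_mem haP hg) (h.ctx.pow_eq ha hD hcm)))
  have hbot := h.rad N hNn (OddOrderTheorem.solvable hNodd)
  apply h.ctx.ne_one a ha
  rw [← Subgroup.mem_bot, ← h.center_eq_bot, Subgroup.mem_center_iff]
  intro g
  have h1 := hN g
  rw [hbot, Subgroup.mem_bot] at h1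
  calc g * a = (a * g * a⁻¹ * g⁻¹) * (g * a) := by rw [h1, one_mul]
    _ = a * g := by group

namespace BlockCase

variable (h : BlockCase p D)
include h

theorem trans {a b c : G} (ha : a ∈ D) (hb : b ∈ D) (hc : c ∈ D) (hab : Commute a b)
    (hbc : Commute b c) : Commute a c := (h.twin a ha b hb hab c hc).2 hbc

theorem commute_of_moves {y c : G} (hy : y ∈ D) (hc : c ∈ D) (h1 : Commute (y * c * y) c) :
    Commute y c := by
  by_contra hn
  exact h.min.ctx.not_comm_conj hc hy (fun e => hn e.symm) h1.symm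

/-- Products of distinct commuting members are members. -/
theorem mul_mem {a b : G} (ha : a ∈ D) (hb : b ∈ D) (hne : a ≠ b) (hab : Commute a b) :
    a * b ∈ D := by
  by_contra hu
  set u := a * b with hudef
  have hu2 : u * u = 1 := mul_sq_one (h.min.ctx.sq a ha) (h.min.ctx.sq b hb) hab
  refine h.min.kernel_absurd (Tw D) Tw.refl (fun x y => Tw.symm) (fun x y z => Tw.trans)
    (fun g x y t => h.min.ctx.tw_conj g t) ha hb hne (h.twin a ha b hb hab) ?_ fun x hx => ?_
  · intro htop
    have hle : Subgroup.closure {x | x ∈ D ∧ Tw D a x} ≤ Subgroup.centralizer ({a} : Set G) :=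
      (Subgroup.closure_le _).2 fun x hx =>
        Subgroup.mem_centralizer_singleton_iff.2 ((hx.2.comm hx.1).symm).eq
    rw [htop] at hle
    apply h.min.ctx.ne_one a ha
    rw [← Subgroup.mem_bot, ← h.min.center_eq_bot, Subgroup.mem_center_iff]
    exact fun g => Subgroup.mem_centralizer_singleton_iff.1 (hle (Subgroup.mem_top g))
  · rw [conj_invol hu2]
    by_cases hxa : Commute x a
    · rw [conj_fix hu2 (hxa.mul_right (h.trans hx ha hb hxa hab)).symm]
      exact Tw.refl x
    · exact h.twin x hx _ (h.min.ctx.conj' u hu2 hx) (h.min.key ha hb hx hne hab hu hxa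
        fun e => hxa (h.trans hx hb ha e hab.symm))

/-- An element centralising two distinct members of one block centralises no member outside it. -/
theorem cent_block {w a a2 d : G} (hw : w ≠ 1) (ha : a ∈ D) (ha2 : a2 ∈ D) (hd : d ∈ D)
    (hne : a ≠ a2) (haa : Commute a a2) (h1 : Commute a w) (h2 : Commute a2 w)
    (h3 : Commute d w) : Commute d a := by
  by_contra hn
  exact h.min.prod_not_mem ha ha2 hd hne haa hn (fun e => hn (h.trans hd ha2 ha e haa.symm)) hw h1
    h2 h3 (h.mul_mem ha ha2 hne haa)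

/-- The block of `a`. -/
def blk (_h : BlockCase p D) (a : G) : Set G := {d | d ∈ D ∧ Commute a d}

theorem blk_card {a b : G} (ha : a ∈ D) (hb : b ∈ D) : (h.blk a).ncard = (h.blk b).ncard := by
  have key : ∀ {a b : G}, a ∈ D → b ∈ D → (h.blk a).ncard ≤ (h.blk b).ncard := by
    intro a b ha hb
    obtain ⟨g, rfl⟩ := h.min.single a ha b hb
    exact Set.ncard_le_ncard_of_injOn (fun d => g * d * g⁻¹)
      (fun d hd => ⟨h.min.ctx.conj g d hd.1, (commute_conj_iff g).2 hd.2⟩)
      (fun x _ y _ e => by simpa using e) (Set.toFinite _)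
  exact le_antisymm (key ha hb) (key hb ha)

theorem blk_three {a : G} (ha : a ∈ D) : 3 ≤ (h.blk a).ncard := by
  obtain ⟨c, hc, d, hd, hne, hcd⟩ := h.pair
  rw [h.blk_card ha hc]
  have hu := h.mul_mem hc hd hne hcd
  have hsub : ({c, d, c * d} : Set G) ⊆ h.blk c := by
    rintro z (rfl | rfl | rfl)
    exacts [⟨hc, Commute.refl _⟩, ⟨hd, hcd⟩, ⟨hu, (Commute.refl c).mul_right hcd⟩]
  refine le_trans (le_of_eq ?_) (Set.ncard_le_ncard hsub (Set.toFinite _))
  rw [Set.ncard_eq_three.2]
  exact ⟨c, d, c * d, hne, fun e => h.min.ctx.ne_one d hd (left_eq_mul.1 e),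
    fun e => h.min.ctx.ne_one c hc (right_eq_mul.1 e), rfl⟩

theorem exists_other {a : G} (ha : a ∈ D) : ∃ a2 ∈ D, a ≠ a2 ∧ Commute a a2 := by
  by_contra! hc
  have hsub : h.blk a ⊆ {a} := fun z hz => by
    by_contra hne
    exact hc z hz.1 (fun e => hne e.symm) hz.2
  have := Set.ncard_le_ncard hsub (Set.toFinite _)
  rw [Set.ncard_singleton] at this
  have := h.blk_three ha
  omega

theorem blk_add_one {a : G} (ha : a ∈ D) : ∃ f, (h.blk a).ncard + 1 = 2 ^ f := by
  let E : Subgroup G :=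
    { carrier := {z | z = 1 ∨ z ∈ h.blk a}
      one_mem' := Or.inl rfl
      mul_mem' := by
        rintro y z (rfl | hy) (rfl | hz)
        · exact Or.inl (mul_one 1)
        · exact Or.inr (by rwa [one_mul])
        · exact Or.inr (by rwa [mul_one])
        · by_cases hyz : y = z
          · exact Or.inl (by rw [hyz, h.min.ctx.sq z hz.1])
          · exact Or.inr ⟨h.mul_mem hy.1 hz.1 hyz (h.trans hy.1 ha hz.1 hy.2.symm hz.2),
              hy.2.mul_right hz.2⟩
      inv_mem' := by
        rintro z (rfl | hz)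
        · exact Or.inl inv_one
        · exact Or.inr (by rwa [h.min.ctx.inv hz.1]) }
  haveI : Fact (Nat.Prime 2) := ⟨Nat.prime_two⟩
  have hE : IsPGroup 2 ↥E := fun z => ⟨1, Subtype.ext (by
    rcases z.2 with hz | hz
    · simp [show (z : G) = 1 from hz]
    · simpa [pow_two] using h.min.ctx.sq _ hz.1)⟩
  obtain ⟨f, hf⟩ := IsPGroup.iff_card.1 hE
  refine ⟨f, ?_⟩
  rw [← hf]
  have hset : (E : Set G) = insert 1 (h.blk a) := rfl
  have hcard : Nat.card ↥E = (E : Set G).ncard := Nat.card_coe_set_eq (E : Set G)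
  rw [hcard, hset, Set.ncard_insert_of_notMem (fun hh => h.min.ctx.ne_one 1 hh.1 rfl)
    (Set.toFinite _)]

/-- A product of two non-commuting members centralises no member. -/
theorem no_fixed {y y' r : G} (hy : y ∈ D) (hy' : y' ∈ D) (hn : ¬ Commute y y') (hr : r ∈ D) :
    ¬ Commute r (y * y') := by
  classical
  intro hrx
  haveI := Fintype.ofFinite G
  have hc := h.min.ctx
  set x := y * y' with hx
  set R := (Finset.univ : Finset G).filter (fun z => z ∈ D ∧ Commute z x) with hR
  have hRm : ∀ z, z ∈ R ↔ z ∈ D ∧ Commute z x := fun z => by simp [hR]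
  have hxi : y * x * y = x⁻¹ := by
    rw [hx, mul_inv_rev, hc.inv hy, hc.inv hy', ← mul_assoc, hc.sq y hy, one_mul]
  have heven : Even R.card := by
    refine even_card_of_involutive (fun z => y * z * y) (fun z hz => ?_)
      (fun z _ => conj_conj_invol (hc.sq y hy) z) fun z hz he => ?_
    · obtain ⟨hzD, hzc⟩ := (hRm z).1 hz
      refine (hRm _).2 ⟨hc.conjD hy hzD, ?_⟩
      have := (commute_conj_invol_iff (hc.sq y hy)).2 hzc
      rw [hxi] at this
      simpa using this.inv_right
    · obtain ⟨hzD, hzc⟩ := (hRm z).1 hz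
      have hyz := commute_of_conj_fix (hc.sq y hy) he
      have hzy' : Commute z y' := by
        have hh := hyz.symm.mul_right hzc
        rwa [hx, ← mul_assoc, hc.sq y hy, one_mul] at hh
      exact hn (h.trans hy hzD hy' hyz hzy')
  have hodd : Odd R.card := by
    have hrm : r ∈ R := (hRm r).2 ⟨hr, hrx⟩
    set R1 := R.filter (fun z => Commute r z ∧ z ≠ r) with hR1
    set R2 := R.filter (fun z => ¬ Commute r z) with hR2
    have h1 : Even R1.card := by
      refine even_card_of_involutive (fun z => r * z) (fun z hz => ?_)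
        (fun z _ => by simp [← mul_assoc, hc.sq r hr]) fun z hz he => ?_
      · simp only [hR1, Finset.mem_filter, hRm] at hz ⊢
        refine ⟨⟨h.mul_mem hr hz.1.1 (Ne.symm hz.2.2) hz.2.1, hrx.mul_left hz.1.2⟩,
          (Commute.refl r).mul_right hz.2.1, fun e => hc.ne_one z hz.1.1 (mul_eq_left.1 e)⟩
      · exact hc.ne_one r hr (mul_eq_right.1 he)
    have h2 : Even R2.card := by
      refine even_card_of_involutive (fun z => r * z * r) (fun z hz => ?_)
        (fun z _ => conj_conj_invol (hc.sq r hr) z) fun z hz he => ?_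
      · simp only [hR2, Finset.mem_filter, hRm] at hz ⊢
        refine ⟨⟨hc.conjD hr hz.1.1, (hrx.mul_left hz.1.2).mul_left hrx⟩, fun e => hz.2 ?_⟩
        have := (commute_conj_invol_iff (hc.sq r hr)).2 e
        rwa [conj_conj_invol (hc.sq r hr), conj_fix (hc.sq r hr) (Commute.refl r)] at this
      · simp only [hR2, Finset.mem_filter] at hz
        exact hz.2 (commute_of_conj_fix (hc.sq r hr) he)
    have hsplit : R = insert r (R1 ∪ R2) := by
      ext z
      simp only [hR1, hR2, Finset.mem_insert, Finset.mem_union, Finset.mem_filter]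
      constructor
      · intro hz
        by_cases e : z = r
        · exact Or.inl e
        · by_cases e' : Commute r z
          · exact Or.inr (Or.inl ⟨hz, e', e⟩)
          · exact Or.inr (Or.inr ⟨hz, e'⟩)
      · rintro (rfl | ⟨hz, -, -⟩ | ⟨hz, -⟩) <;> assumption
    have hdisj : Disjoint R1 R2 := Finset.disjoint_left.2 fun z hz1 hz2 =>
      (Finset.mem_filter.1 hz2).2 (Finset.mem_filter.1 hz1).2.1
    have hnot : r ∉ R1 ∪ R2 := by simp [hR1, hR2]
    rw [hsplit, Finset.card_insert_of_notMem hnot, Finset.card_union_of_disjoint hdisj]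
    exact (h1.add h2).add_one
  exact Nat.not_odd_iff_even.2 heven hodd

/-- The members of `D` carrying the block of `a` to the block of `b`. -/
def sw (_h : BlockCase p D) (a b : G) : Set G := {y | y ∈ D ∧ Commute (y * a * y) b}

theorem sw_not_comm {a b : G} (ha : a ∈ D) (hb : b ∈ D) (hab : ¬ Commute a b) {y : G}
    (hy : y ∈ h.sw a b) : ¬ Commute y a := fun e =>
  hab (by have := hy.2; rwa [conj_fix (h.min.ctx.sq y hy.1) e] at this)

theorem sw_pairwise {a b : G} (ha : a ∈ D) (hb : b ∈ D) (hab : ¬ Commute a b) :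
    ∀ y ∈ h.sw a b, ∀ y' ∈ h.sw a b, Commute y y' → y = y' := by
  intro y hy y' hy' hc
  by_contra hne
  have hctx := h.min.ctx
  have hu := h.mul_mem hy.1 hy'.1 hne hc
  have hs1 := hctx.sq y hy.1
  have hs2 := hctx.sq y' hy'.1
  -- `y y'` maps the block of `a` to itself
  have h1 : Commute (y * (y' * a * y') * y) (y * b * y) := (commute_conj_invol_iff hs1).2 hy'.2
  have h2 : Commute (y * b * y) a := by
    have := (commute_conj_invol_iff hs1).2 hy.2
    rw [conj_conj_invol hs1] at this
    exact this.symm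
  have h3 : Commute (y * (y' * a * y') * y) a :=
    h.trans (hctx.conjD hy.1 (hctx.conjD hy'.1 ha)) (hctx.conjD hy.1 hb) ha h1 h2
  rw [show y * (y' * a * y') * y = y * y' * a * (y' * y) by group, ← hc.eq] at h3
  have h4 := h.commute_of_moves hu ha h3
  exact h.sw_not_comm ha hb hab hy
    (h.trans hy.1 hu ha ((Commute.refl y).mul_right hc) h4)

theorem sw_conj {a b : G} (ha : a ∈ D) (hb : b ∈ D) {y y' : G} (hy : y ∈ h.sw a b)
    (hy' : y' ∈ h.sw a b) : y' * y * y' ∈ h.sw a b := by
  have hctx := h.min.ctx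
  have hs := hctx.sq y hy.1
  have hs' := hctx.sq y' hy'.1
  refine ⟨hctx.conjD hy'.1 hy.1, ?_⟩
  have h1 : Commute (y * (y' * a * y') * y) (y * b * y) := (commute_conj_invol_iff hs).2 hy'.2
  have h2 : Commute (y * b * y) a := by
    have := (commute_conj_invol_iff hs).2 hy.2
    rw [conj_conj_invol hs] at this
    exact this.symm
  have h3 : Commute (y * (y' * a * y') * y) a :=
    h.trans (hctx.conjD hy.1 (hctx.conjD hy'.1 ha)) (hctx.conjD hy.1 hb) ha h1 h2
  have h4 := (commute_conj_invol_iff hs').2 h3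
  have h5 := h.trans (hctx.conjD hy'.1 (hctx.conjD hy.1 (hctx.conjD hy'.1 ha))) (hctx.conjD hy'.1 ha)
    hb h4 hy'.2
  rwa [show y' * y * y' * a * (y' * y * y') = y' * (y * (y' * a * y') * y) * y' by group]

theorem sw_card {a b : G} (ha : a ∈ D) (hb : b ∈ D) (hab : ¬ Commute a b) :
    (h.sw a b).ncard = (h.blk b).ncard := by
  have hctx := h.min.ctx
  have himg : (fun y => y * a * y) '' h.sw a b = h.blk b := by
    ext c
    constructor
    · rintro ⟨y, hy, rfl⟩
      exact ⟨hctx.conjD hy.1 ha, hy.2.symm⟩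
    · rintro ⟨hc, hbc⟩
      have hac : ¬ Commute a c := fun e => hab (h.trans ha hc hb e hbc.symm)
      have hmem : ∀ n : ℕ, a * (c * a) ^ n ∈ D := by
        intro n
        induction n using Nat.twoStepInduction with
        | zero => simpa using ha
        | one => simpa [mul_assoc] using hctx.conjD ha hc
        | more n ih _ =>
          have := hctx.conj (a * c) _ ih
          convert this using 1
          rw [mul_inv_rev, hctx.inv ha, hctx.inv hc, pow_succ, pow_succ']
          simp only [mul_assoc]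
      obtain ⟨m, hm⟩ := hctx.odd
      set y := a * (c * a) ^ m with hy
      have hyc : y * a * y = c := by
        calc y * a * y = a * (c * a) ^ m * (a * a) * (c * a) ^ m := by rw [hy]; group
          _ = a * (c * a) ^ (m + m) := by rw [hctx.sq a ha, mul_one, mul_assoc, ← pow_add]
          _ = a * ((c * a) ^ (m + m) * (c * a)) * (a * c) := by
              rw [show a * ((c * a) ^ (m + m) * (c * a)) * (a * c)
                = a * (c * a) ^ (m + m) * c * (a * a) * c by group, hctx.sq a ha, mul_one,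
                mul_assoc _ c c, hctx.sq c hc, mul_one]
          _ = c := by
              rw [← pow_succ, show m + m + 1 = p by omega,
                hctx.pow_eq hc ha (fun e => hac e.symm), mul_one, ← mul_assoc, hctx.sq a ha,
                one_mul]
      exact ⟨y, ⟨hmem m, by rw [hyc]; exact hbc.symm⟩, hyc⟩
  rw [← himg]
  refine (Set.InjOn.ncard_image ?_).symm
  intro y hy y' hy' e
  by_contra hne
  have hn : ¬ Commute y' y := fun hc => hne (h.sw_pairwise ha hb hab y hy y' hy' hc.symm)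
  refine h.no_fixed hy'.1 hy.1 hn ha ?_
  show a * (y' * y) = y' * y * a
  have hs1 := hctx.sq y hy.1
  have hs2 := hctx.sq y' hy'.1
  simp only at e
  calc a * (y' * y) = y' * (y' * a * y') * y := by
        rw [show y' * (y' * a * y') * y = y' * y' * a * y' * y by group, hs2]; group
    _ = y' * (y * a * y) * y := by rw [e]
    _ = y' * y * a * (y * y) := by group
    _ = y' * y * a := by rw [hs1, mul_one]

theorem odd_pow_add {q : ℕ} (hq : Odd q) :
    ∀ i, ∃ Q, Odd Q ∧ q ^ (2 * i + 1) + 1 = (q + 1) * Q := by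
  intro i
  induction i with
  | zero => exact ⟨1, odd_one, by simp⟩
  | succ i ih =>
    obtain ⟨Q, hQ, hQe⟩ := ih
    obtain ⟨r, hr⟩ := hq
    obtain ⟨s, hs⟩ := hQ
    refine ⟨q * q * Q - (q - 1), ?_, ?_⟩
    · have hle : q - 1 ≤ q * q * Q := by nlinarith [Nat.sub_le q 1]
      have hQo : Odd (q * q * Q) := Odd.mul (Odd.mul ⟨r, hr⟩ ⟨r, hr⟩) ⟨s, hs⟩
      exact Nat.Odd.sub_even hle hQo ⟨r, by omega⟩
    · have hle : q - 1 ≤ q * q * Q := by nlinarith [Nat.sub_le q 1]
      zify [hle, show 1 ≤ q by omega] at hQe ⊢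
      rw [show 2 * (i + 1) + 1 = (2 * i + 1) + 2 by ring, pow_add]
      linear_combination ((q : ℤ) ^ 2) * hQe

/-- A block has exactly `p` members. -/
theorem blk_eq {a : G} (ha : a ∈ D) : (h.blk a).ncard = p := by
  have hctx := h.min.ctx
  obtain ⟨a2, ha2, hne, haa⟩ := h.exists_other ha
  obtain ⟨b, hb, hab⟩ : ∃ b ∈ D, ¬ Commute a b := by
    by_contra! hall
    apply hctx.ne_one a ha
    rw [← Subgroup.mem_bot, ← h.min.center_eq_bot, Subgroup.mem_center_iff]
    intro g
    have hle : Subgroup.closure D ≤ Subgroup.centralizer ({a} : Set G) :=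
      (Subgroup.closure_le _).2 fun x hx =>
        Subgroup.mem_centralizer_singleton_iff.2 (hall x hx).symm.eq
    rw [h.min.gen] at hle
    exact Subgroup.mem_centralizer_singleton_iff.1 (hle (Subgroup.mem_top g))
  set S := h.sw a b with hS
  have hsub : S ⊆ D := fun y hy => hy.1
  have hinv := conj_mem_of_closure (M := S) (fun g hg => hctx.sq g (hsub hg))
    (fun g hg y hy => h.sw_conj ha hb hy hg)
  have hne_top : Subgroup.closure S ≠ ⊤ := by
    intro htop
    obtain ⟨y, hy⟩ : S.Nonempty := by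
      rw [← Set.ncard_pos (Set.toFinite _), hS, h.sw_card ha hb hab]
      have := h.blk_three hb
      omega
    obtain ⟨g, hg⟩ := h.min.single y hy.1 a ha
    have haS : a ∈ S := hg ▸ hinv g (by rw [htop]; exact Subgroup.mem_top g) y hy
    exact h.sw_not_comm ha hb hab haS (Commute.refl a)
  obtain ⟨y, hy⟩ : S.Nonempty := by
    rw [← Set.ncard_pos (Set.toFinite _), hS, h.sw_card ha hb hab]
    have := h.blk_three hb
    omega
  obtain ⟨-, j, hj⟩ := hctx.no_comm (h.min.sub S hsub hne_top) Subgroup.subset_closure hsub hinv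
    (h.sw_pairwise ha hb hab) hy
  rw [hS, h.sw_card ha hb hab, h.blk_card hb ha] at hj
  obtain ⟨f, hf⟩ := h.blk_add_one ha
  have h3 := h.blk_three ha
  rw [hj] at hf h3 ⊢
  have hf2 : 2 ≤ f := by
    by_contra hlt
    have h1 : 2 ^ f ≤ 2 ^ 1 := Nat.pow_le_pow_right (by norm_num) (by omega)
    omega
  have h4 : 4 ∣ p ^ j + 1 := hf ▸ (pow_dvd_pow 2 hf2 : (2 : ℕ) ^ 2 ∣ 2 ^ f)
  rcases Nat.even_or_odd j with ⟨i, hi⟩ | ⟨i, hi⟩
  · exfalso
    obtain ⟨r, hr⟩ := (hctx.odd.pow : Odd (p ^ i))
    rw [hi, pow_add, hr] at h4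
    ring_nf at h4
    omega
  · obtain ⟨Q, hQ, hQe⟩ := h.odd_pow_add hctx.odd i
    rw [hi, hQe] at hf
    obtain ⟨g, _, hg⟩ := (Nat.dvd_prime_pow Nat.prime_two).1 (Dvd.intro_left (p + 1) hf)
    rcases Nat.eq_zero_or_pos g with rfl | hg0
    · rw [hg, pow_zero, mul_one] at hQe
      rw [hi]
      omega
    · exfalso
      rw [hg] at hQ
      exact Nat.not_even_iff_odd.2 hQ ((Nat.even_pow).2 ⟨even_two, by omega⟩)

/-- Any two members carrying one block to another generate the same rotation group. -/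
theorem sw_invert {a b y y' : G} (ha : a ∈ D) (hb : b ∈ D) (hab : ¬ Commute a b)
    (hy : y ∈ h.sw a b) (hy' : y' ∈ h.sw a b) (hne : y ≠ y') :
    ∀ s ∈ h.sw a b, (∃ n : ℕ, s = y * (y' * y) ^ n) ∧ s * (y * y') * s = (y * y')⁻¹ := by
  have hctx := h.min.ctx
  have hn : ¬ Commute y y' := fun e => hne (h.sw_pairwise ha hb hab y hy y' hy' e)
  have hmem : ∀ n : ℕ, y * (y' * y) ^ n ∈ h.sw a b := by
    intro n
    induction n using Nat.twoStepInduction with
    | zero => simpa using hy
    | one => simpa [mul_assoc] using h.sw_conj ha hb hy' hy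
    | more n ih _ =>
      have := h.sw_conj ha hb (h.sw_conj ha hb ih hy') hy
      convert this using 1
      rw [show n + 2 = 1 + n + 1 by omega, pow_succ, pow_add, pow_one]
      group
  have hp' : (y' * y) ^ p = 1 := hctx.pow_eq hy'.1 hy.1 fun e => hn e.symm
  have hne1 : y' * y ≠ 1 := hctx.mul_ne_one hy'.1 hy.1 fun e => hn e.symm
  have ho : orderOf (y' * y) = p := hctx.order hy'.1 hy.1 fun e => hn e.symm
  set L := (fun n : Fin p => y * (y' * y) ^ (n : ℕ)) '' Set.univ with hL
  have hinj : Function.Injective (fun n : Fin p => y * (y' * y) ^ (n : ℕ)) := by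
    intro i j e
    have e' := mul_left_cancel e
    exact Fin.ext (pow_injOn_Iio_orderOf (by rw [ho]; exact i.2) (by rw [ho]; exact j.2) e')
  have hLcard : L.ncard = p := by
    rw [hL, Set.ncard_image_of_injective _ hinj, Set.ncard_univ, Nat.card_eq_fintype_card,
      Fintype.card_fin]
  have heq : L = h.sw a b := Set.eq_of_subset_of_ncard_le
    (by rintro _ ⟨n, -, rfl⟩; exact hmem n)
    (by rw [h.sw_card ha hb hab, h.blk_eq hb, hLcard]) (Set.toFinite _)
  intro s hs
  rw [← heq] at hs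
  obtain ⟨n, -, rfl⟩ := hs
  refine ⟨⟨n, rfl⟩, ?_⟩
  have hsD := (hmem n).1
  show y * (y' * y) ^ (n : ℕ) * (y * y') * (y * (y' * y) ^ (n : ℕ)) = _
  have hinv : y * y' = (y' * y)⁻¹ := by rw [mul_inv_rev, hctx.inv hy.1, hctx.inv hy'.1]
  set r := y' * y with hr
  set s := y * r ^ (n : ℕ) with hs'
  have h1 : y * r * y = r⁻¹ := by
    rw [← hinv, hr, mul_assoc, mul_assoc y', hctx.sq y hy.1, mul_one]
  rw [hinv, inv_inv]
  have h2 : s * r⁻¹ * s⁻¹ = r := by
    rw [hs', show (y * r ^ (n : ℕ))⁻¹ = (r ^ (n : ℕ))⁻¹ * y from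
      (mul_inv_rev _ _).trans (congrArg ((r ^ (n : ℕ))⁻¹ * ·) (hctx.inv hy.1))]
    calc y * r ^ (n : ℕ) * r⁻¹ * ((r ^ (n : ℕ))⁻¹ * y) = y * r⁻¹ * y := by group
      _ = (y * r * y)⁻¹ := conj_inv_of_sq (hctx.sq y hy.1) r
      _ = r := by rw [h1, inv_inv]
  rwa [hctx.inv hsD] at h2

end BlockCase

end Cfsg.Agent.TwoPInvol
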