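import Cfsg.Agent.Lib.TwoPInvol.BlockBasic

/-!
# The block case is impossible (owner: helper81)

`BlockCase.false`.
-/

set_option autoImplicit false
set_option linter.unusedSectionVars false
set_option linter.style.haveILetI false

namespace Cfsg.Agent.TwoPInvol

variable {G : Type*} [Group G] [Finite G] {p : ℕ} {D : Set G}

namespace BlockCase

variable (h : BlockCase p D)
include h

/-- A product of two members fixing the block of `d`: neither factor commutes with `d`, and both
carry it to the same block. -/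
theorem fixes_block {y y' d : G} (hy : y ∈ D) (hy' : y' ∈ D) (hn : ¬ Commute y y') (hd : d ∈ D)
    (hfix : Commute (y * y' * d * (y * y')⁻¹) d) :
    ¬ Commute y d ∧ y' ∈ h.sw d (y * d * y) := by
  have hc := h.min.ctx
  have h1 : Commute (y' * d * y') (y * d * y) := by
    have := (commute_conj_invol_iff (hc.sq y hy)).2 hfix
    rwa [mul_inv_rev, hc.inv hy, hc.inv hy',
      show y * (y * y' * d * (y' * y)) * y = (y * y) * (y' * d * y') * (y * y) by group,
      hc.sq y hy, one_mul, mul_one] at this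
  refine ⟨fun e => hn ?_, hy', h1⟩
  rw [conj_fix (hc.sq y hy) e] at h1
  exact h.trans hy hd hy' e (h.commute_of_moves hy' hd h1).symm

/-- Some product of two non-commuting members fixes no block. -/
theorem exists_free : ∃ y ∈ D, ∃ y' ∈ D, ¬ Commute y y' ∧
    ∀ a ∈ D, ¬ Commute (y * y' * a * (y * y')⁻¹) a := by
  classical
  haveI := Fintype.ofFinite G
  have hc := h.min.ctx
  by_contra hcon
  push Not at hcon
  set Df := (Finset.univ : Finset G).filter (· ∈ D) with hDf
  have hDm : ∀ z, z ∈ Df ↔ z ∈ D := fun z => by simp [hDf]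
  set NC := (Df ×ˢ Df).filter (fun q => ¬ Commute q.1 q.2) with hNC
  set T := (NC ×ˢ Df).filter
    (fun t => Commute (t.1.1 * t.1.2 * t.2 * (t.1.1 * t.1.2)⁻¹) t.2) with hT
  have hNCm : ∀ q : G × G, q ∈ NC ↔ q.1 ∈ D ∧ q.2 ∈ D ∧ ¬ Commute q.1 q.2 := fun q => by
    simp [hNC, hDm, and_assoc]
  have hTm : ∀ t : (G × G) × G, t ∈ T ↔ t.1 ∈ NC ∧ t.2 ∈ D ∧
      Commute (t.1.1 * t.1.2 * t.2 * (t.1.1 * t.1.2)⁻¹) t.2 := fun t => by
    simp [hT, hDm, and_assoc]
  have hblk : ∀ a ∈ D, ((Finset.univ : Finset G).filter (· ∈ h.blk a)).card = p := fun a ha => by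
    have e := Set.ncard_eq_toFinset_card' (h.blk a)
    exact ((congrArg Finset.card (by ext z; simp)).trans e.symm).trans (h.blk_eq ha)
  have lower : NC.card * (2 * p) ≤ T.card := by
    rw [Finset.card_eq_sum_card_fiberwise (s := T) (f := Prod.fst) (t := NC)
      (fun t ht => ((hTm t).1 ht).1)]
    refine le_trans (le_of_eq ?_) (Finset.card_nsmul_le_sum _ _ (2 * p) fun q hq => ?_)
    · rw [smul_eq_mul]
    obtain ⟨hq1, hq2, hqn⟩ := (hNCm q).1 hq
    obtain ⟨a, ha, hfix⟩ := hcon q.1 hq1 q.2 hq2 hqn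
    obtain ⟨hya, hy'⟩ := h.fixes_block hq1 hq2 hqn ha hfix
    set x := q.1 * q.2 with hx
    set b := q.1 * a * q.1 with hb
    have hbD : b ∈ D := hc.conjD hq1 ha
    have hab : ¬ Commute a b := hc.not_comm_conj ha hq1 fun e => hya e.symm
    have hfb : Commute (x * b * x⁻¹) b := by
      have hfix' : Commute a (x⁻¹ * a * x) := by
        have := (commute_conj_iff x⁻¹).2 hfix
        simpa [mul_assoc] using this
      have := (commute_conj_invol_iff (hc.sq _ hq1)).2 hfix'
      have e : q.1 * (x⁻¹ * a * x) * q.1 = x * b * x⁻¹ := by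
        rw [hx, hb, mul_inv_rev, hc.inv hq1, hc.inv hq2]; group
      rw [e] at this
      exact this.symm
    have hall : ∀ c ∈ D, ∀ d ∈ D, Commute c d → Commute (x * c * x⁻¹) c →
        Commute (x * d * x⁻¹) d := fun c hcD d hdD hcd hf =>
      h.trans (hc.conj x d hdD) (hc.conj x c hcD) hdD ((commute_conj_iff x).2 hcd.symm)
        (h.trans (hc.conj x c hcD) hcD hdD hf hcd)
    set U := ((Finset.univ : Finset G).filter (· ∈ h.blk a)) ∪
      ((Finset.univ : Finset G).filter (· ∈ h.blk b)) with hU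
    have hUc : U.card = 2 * p := by
      rw [hU, Finset.card_union_of_disjoint, hblk a ha, hblk b hbD, two_mul]
      refine Finset.disjoint_left.2 fun z hz1 hz2 => hab ?_
      simp only [Finset.mem_filter, Finset.mem_univ, true_and] at hz1 hz2
      exact h.trans ha hz1.1 hbD hz1.2 hz2.2.symm
    rw [← hUc]
    refine Finset.card_le_card_of_injOn (fun z => (q, z)) (fun z hz => ?_)
      (fun z _ w _ e => (Prod.ext_iff.1 e).2)
    simp only [hU, Finset.mem_coe, Finset.mem_union, Finset.mem_filter, Finset.mem_univ,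
      true_and] at hz
    simp only [Finset.coe_filter, Set.mem_setOf_eq, hTm, and_true]
    rcases hz with hz | hz
    · exact ⟨hq, hz.1, hall a ha z hz.1 hz.2 hfix⟩
    · exact ⟨hq, hz.1, hall b hbD z hz.1 hz.2 hfb⟩
  have upper : T.card ≤ NC.card * (p - 1) := by
    rw [Finset.card_eq_sum_card_fiberwise (s := T) (f := fun t => (t.1.1, t.2)) (t := NC)
      (fun t ht => by
        obtain ⟨hq, ha, hfix⟩ := (hTm t).1 ht
        obtain ⟨hq1, hq2, hqn⟩ := (hNCm _).1 hq
        exact (hNCm _).2 ⟨hq1, ha, (h.fixes_block hq1 hq2 hqn ha hfix).1⟩)]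
    refine le_trans (Finset.sum_le_card_nsmul _ _ (p - 1) fun q hq => ?_) (le_of_eq (smul_eq_mul _ _))
    obtain ⟨hy, ha, hya⟩ := (hNCm q).1 hq
    set b := q.1 * q.2 * q.1 with hb
    have hbD : b ∈ D := hc.conjD hy ha
    have hab : ¬ Commute q.2 b := hc.not_comm_conj ha hy fun e => hya e.symm
    have hymem : q.1 ∈ h.sw q.2 b := ⟨hy, Commute.refl b⟩
    have hcard : (h.sw q.2 b \ {q.1}).ncard = p - 1 := by
      rw [Set.ncard_diff_singleton_of_mem hymem, h.sw_card ha hbD hab, h.blk_eq hbD]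
    rw [← hcard, ← Set.ncard_coe_finset]
    refine Set.ncard_le_ncard_of_injOn (fun t => t.1.2) (fun t ht => ?_) (fun t ht t' ht' e => ?_)
      (Set.toFinite _)
    · simp only [Finset.coe_filter, Set.mem_setOf_eq] at ht
      obtain ⟨htT, hte⟩ := ht
      obtain ⟨hq', ha', hfix⟩ := (hTm t).1 htT
      obtain ⟨hq1, hq2, hqn⟩ := (hNCm _).1 hq'
      obtain ⟨e1, e2⟩ := Prod.ext_iff.1 hte
      simp only at e1 e2
      have hsw := (h.fixes_block hq1 hq2 hqn ha' hfix).2
      refine ⟨?_, fun e3 => hqn ?_⟩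
      · show t.1.2 ∈ h.sw q.2 b
        rw [hb, ← e1, ← e2]; exact hsw
      · rw [show t.1.2 = q.1 from e3, ← e1]
    · simp only [Finset.coe_filter, Set.mem_setOf_eq] at ht ht'
      obtain ⟨a1, b1⟩ := Prod.ext_iff.1 ht.2
      obtain ⟨a2, b2⟩ := Prod.ext_iff.1 ht'.2
      exact Prod.ext (Prod.ext (a1.trans a2.symm) e) (b1.trans b2.symm)
  obtain ⟨a, ha, -⟩ := h.pair
  have hpos : 0 < NC.card := by
    rw [Finset.card_pos]
    by_contra hne
    apply hc.ne_one a ha
    rw [← Subgroup.mem_bot, ← h.min.center_eq_bot, Subgroup.mem_center_iff]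
    intro g
    have hle : Subgroup.closure D ≤ Subgroup.centralizer ({a} : Set G) :=
      (Subgroup.closure_le _).2 fun z hz => by
        refine Subgroup.mem_centralizer_singleton_iff.2 ?_
        by_contra hza
        exact hne ⟨(z, a), (hNCm _).2 ⟨hz, ha, hza⟩⟩
    rw [h.min.gen] at hle
    exact Subgroup.mem_centralizer_singleton_iff.1 (hle (Subgroup.mem_top g))
  have h5 := hc.five
  have := Nat.le_of_mul_le_mul_left (lower.trans upper) hpos
  omega

/-- The equivalence of lying in one block. -/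
def setoid : Setoid ↥D where
  r x y := Commute (x : G) y
  iseqv := ⟨fun _ => Commute.refl _, fun hxy => hxy.symm,
    fun {x y z} hxy hyz => h.trans x.2 y.2 z.2 hxy hyz⟩

/-- The blocks. -/
def Om : Type _ := Quotient h.setoid

instance : Finite h.Om := Quotient.finite _

/-- The block of a member, as a point. -/
def pt (a : G) (ha : a ∈ D) : h.Om := Quotient.mk h.setoid ⟨a, ha⟩

theorem pt_eq {a b : G} {ha : a ∈ D} {hb : b ∈ D} : h.pt a ha = h.pt b hb ↔ Commute a b :=
  ⟨fun e => (Quotient.exact e : _), fun e => Quotient.sound e⟩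

theorem exists_pt (ω : h.Om) : ∃ a, ∃ ha : a ∈ D, h.pt a ha = ω := by
  induction ω using Quotient.inductionOn with
  | _ x => exact ⟨x.1, x.2, rfl⟩

/-- Conjugation on blocks. -/
@[reducible] def act : MulAction G h.Om where
  smul g := Quotient.map (fun x => ⟨g * (x : G) * g⁻¹, h.min.ctx.conj g _ x.2⟩)
    (fun _ _ e => (commute_conj_iff g).2 e)
  one_smul ω := by
    induction ω using Quotient.inductionOn with
    | _ x => exact congrArg (Quotient.mk _) (Subtype.ext (by simp))
  mul_smul g g' ω := by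
    induction ω using Quotient.inductionOn with
    | _ x => exact congrArg (Quotient.mk _) (Subtype.ext (by simp [mul_assoc]))

theorem smul_pt (g a : G) (ha : a ∈ D) :
    letI := h.act
    g • h.pt a ha = h.pt (g * a * g⁻¹) (h.min.ctx.conj g a ha) := rfl

theorem false : False := by
  classical
  haveI := Fintype.ofFinite G
  letI := h.act
  have hc := h.min.ctx
  haveI : Fact p.Prime := ⟨hc.prime⟩
  -- the number of blocks is divisible by `p`
  obtain ⟨y0, hy0, y0', hy0', hn0, hfree⟩ := h.exists_free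
  have hpgrp : ∀ {z : G}, z ^ p = 1 → IsPGroup p ↥(Subgroup.zpowers z) := fun {z} hz g => by
    obtain ⟨k, hk⟩ := g.2
    refine ⟨1, Subtype.ext ?_⟩
    rw [pow_one, SubgroupClass.coe_pow, OneMemClass.coe_one, ← hk]
    show (z ^ k) ^ p = 1
    rw [← zpow_natCast (z ^ k), ← zpow_mul, mul_comm, zpow_mul, zpow_natCast, hz, one_zpow]
  have hn : p ∣ Nat.card h.Om := by
    refine (hpgrp (hc.pow_eq hy0 hy0' hn0)).card_modEq_card_fixedPoints h.Om |>.dvd_iff
      (dvd_refl p) |>.2 ?_
    have : IsEmpty (MulAction.fixedPoints ↥(Subgroup.zpowers (y0 * y0')) h.Om) := ⟨fun ω => by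
      obtain ⟨a, ha, hω⟩ := h.exists_pt ω.1
      have h1 : (y0 * y0') • ω.1 = ω.1 := ω.2 ⟨y0 * y0', Subgroup.mem_zpowers _⟩
      rw [← hω, h.smul_pt, h.pt_eq] at h1
      exact hfree a ha h1⟩
    rw [Nat.card_of_isEmpty]
    exact dvd_zero p
  -- a product fixing two blocks
  obtain ⟨a, ha, -⟩ := h.pair
  obtain ⟨b, hb, hab⟩ : ∃ b ∈ D, ¬ Commute a b := by
    by_contra! hall
    apply hc.ne_one a ha
    rw [← Subgroup.mem_bot, ← h.min.center_eq_bot, Subgroup.mem_center_iff]
    intro g
    have hle : Subgroup.closure D ≤ Subgroup.centralizer ({a} : Set G) :=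
      (Subgroup.closure_le _).2 fun z hz =>
        Subgroup.mem_centralizer_singleton_iff.2 (hall z hz).symm.eq
    rw [h.min.gen] at hle
    exact Subgroup.mem_centralizer_singleton_iff.1 (hle (Subgroup.mem_top g))
  -- a pair of different members of `sw c d` gives an element fixing both blocks
  have hxfix : ∀ {c d y y' : G}, c ∈ D → d ∈ D → y ∈ h.sw c d → y' ∈ h.sw c d →
      Commute (y * y' * c * (y * y')⁻¹) c := by
    intro c d y y' hcD hdD hy hy'
    have h1 := (commute_conj_invol_iff (hc.sq y hy.1)).2 hy'.2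
    have h2 : Commute (y * d * y) c := by
      have := (commute_conj_invol_iff (hc.sq y hy.1)).2 hy.2
      rw [conj_conj_invol (hc.sq y hy.1)] at this
      exact this.symm
    have h3 := h.trans (hc.conjD hy.1 (hc.conjD hy'.1 hcD)) (hc.conjD hy.1 hdD) hcD h1 h2
    rwa [mul_inv_rev, hc.inv hy.1, hc.inv hy'.1,
      show y * y' * c * (y' * y) = y * (y' * c * y') * y by group]
  have hxfix' : ∀ {c d y y' : G}, c ∈ D → d ∈ D → y ∈ h.sw c d → y' ∈ h.sw c d →
      Commute (y * y' * d * (y * y')⁻¹) d := by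
    intro c d y y' hcD hdD hy hy'
    have hflip : ∀ {z : G}, z ∈ h.sw c d → z ∈ h.sw d c := fun {z} hz => ⟨hz.1, by
      have := (commute_conj_invol_iff (hc.sq z hz.1)).2 hz.2
      rw [conj_conj_invol (hc.sq z hz.1)] at this
      exact this.symm⟩
    exact hxfix hdD hcD (hflip hy) (hflip hy')
  obtain ⟨y, hy, y', hy', hyne⟩ := (Set.one_lt_ncard (Set.toFinite _)).1
    (show 1 < (h.sw a b).ncard by rw [h.sw_card ha hb hab, h.blk_eq hb]; exact hc.prime.one_lt)
  have hyn : ¬ Commute y y' := fun e => hyne (h.sw_pairwise ha hb hab y hy y' hy' e)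
  set x := y * y' with hxdef
  have hxp : x ^ p = 1 := hc.pow_eq hy.1 hy'.1 hyn
  have hx1 : x ≠ 1 := hc.mul_ne_one hy.1 hy'.1 hyn
  set pa := h.pt a ha with hpa
  set pb := h.pt b hb with hpb
  have hxa : x • pa = pa := by rw [hpa, h.smul_pt, h.pt_eq]; exact hxfix ha hb hy hy'
  have hxb : x • pb = pb := by rw [hpb, h.smul_pt, h.pt_eq]; exact hxfix' ha hb hy hy'
  have hyab : y • pa = pb := by
    rw [hpa, hpb, h.smul_pt, h.pt_eq, hc.inv hy.1]; exact hy.2
  have hne_ab : pa ≠ pb := fun e => hab (h.pt_eq.1 e)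
  have hfix_iff : ∀ ω : h.Om,
      ω ∈ MulAction.fixedPoints ↥(Subgroup.zpowers x) h.Om ↔ x • ω = ω := by
    intro ω
    constructor
    · intro hω; exact hω ⟨x, Subgroup.mem_zpowers x⟩
    · rintro hω ⟨g, k, rfl⟩
      have : x ∈ MulAction.stabilizer G ω := hω
      exact zpow_mem this k
  -- a third fixed block
  obtain ⟨c, hcD, hca, hcb, hxc⟩ :
      ∃ c, ∃ hcD : c ∈ D, ¬ Commute a c ∧ ¬ Commute b c ∧ x • h.pt c hcD = h.pt c hcD := by
    have hmod := (hpgrp hxp).card_modEq_card_fixedPoints h.Om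
    have hdvd : p ∣ Nat.card (MulAction.fixedPoints ↥(Subgroup.zpowers x) h.Om) :=
      (hmod.dvd_iff (dvd_refl p)).1 hn
    have hpos : 0 < Nat.card (MulAction.fixedPoints ↥(Subgroup.zpowers x) h.Om) := by
      haveI : Nonempty (MulAction.fixedPoints ↥(Subgroup.zpowers x) h.Om) :=
        ⟨⟨pa, (hfix_iff pa).2 hxa⟩⟩
      exact Nat.card_pos
    have h3 : 3 ≤ (MulAction.fixedPoints ↥(Subgroup.zpowers x) h.Om).ncard := by
      rw [← Nat.card_coe_set_eq]
      have := Nat.le_of_dvd hpos hdvd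
      have := hc.five
      omega
    obtain ⟨ω, hω, hωab⟩ := Set.exists_mem_notMem_of_ncard_lt_ncard
      (s := {pa, pb}) (t := MulAction.fixedPoints ↥(Subgroup.zpowers x) h.Om)
      (by rw [Set.ncard_pair hne_ab]; omega) (Set.toFinite _)
    obtain ⟨c, hcD, rfl⟩ := h.exists_pt ω
    simp only [Set.mem_insert_iff, Set.mem_singleton_iff, not_or] at hωab
    exact ⟨c, hcD, fun e => hωab.1 (h.pt_eq.2 e.symm), fun e => hωab.2 (h.pt_eq.2 e.symm),
      (hfix_iff _).1 hω⟩
  by_cases hA : ∀ d, ∀ hd : d ∈ D, ¬ Commute a d → x • h.pt d hd = h.pt d hd →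
      ∀ z ∈ h.sw a d, z * x * z = x⁻¹
  · -- all these members invert `x`
    set I := {z | z ∈ D ∧ z * x * z = x⁻¹} with hI
    have hyI : y ∈ I := ⟨hy.1, by
      rw [hxdef, mul_inv_rev, hc.inv hy.1, hc.inv hy'.1, ← mul_assoc, hc.sq y hy.1, one_mul]⟩
    have hxinv : ∀ z ∈ I, ∀ z' ∈ I, Commute (z * z') x := by
      intro z hz z' hz'
      refine (?_ : z * z' * x = x * (z * z'))
      have e1 : z' * x = x⁻¹ * z' := by
        rw [← hz'.2, mul_assoc _ z' z', hc.sq z' hz'.1, mul_one]
      have e2 : z * x⁻¹ = x * z := by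
        have := conj_inv_of_sq (hc.sq z hz.1) x
        rw [hz.2, inv_inv] at this
        calc z * x⁻¹ = z * x⁻¹ * (z * z) := by rw [hc.sq z hz.1, mul_one]
          _ = z * x⁻¹ * z * z := by group
          _ = x * z := by rw [this]
      rw [mul_assoc, e1, ← mul_assoc, e2, mul_assoc]
    have hpw : ∀ z ∈ I, ∀ z' ∈ I, Commute z z' → z = z' := by
      intro z hz z' hz' hzz
      by_contra hne
      exact h.no_fixed hy.1 hy'.1 hyn (h.mul_mem hz.1 hz'.1 hne hzz) (hxinv z hz z' hz')
    have hinv := conj_mem_of_closure (S := I) (M := I) (fun g hg => hc.sq g hg.1)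
      (fun g hg z hz => ⟨hc.conjD hg.1 hz.1, by
        have hg2 : g * x⁻¹ * g = x := by
          rw [conj_inv_of_sq (hc.sq g hg.1), hg.2, inv_inv]
        calc g * z * g * x * (g * z * g) = g * (z * (g * x * g) * z) * g := by group
          _ = g * (z * x * z)⁻¹ * g := by rw [hg.2, conj_inv_of_sq (hc.sq z hz.1)]
          _ = x⁻¹ := by rw [hz.2, inv_inv, hg.2]⟩)
    have hItop : Subgroup.closure I ≠ ⊤ := by
      intro htop
      apply hx1
      have hn' : (Subgroup.zpowers x).Normal := by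
        constructor
        rintro g ⟨k, rfl⟩ t
        have ht : t ∈ Subgroup.closure I := by rw [htop]; exact Subgroup.mem_top t
        have hgen : ∀ z ∈ I, ∀ g ∈ (Subgroup.zpowers x : Set G),
            z * g * z ∈ (Subgroup.zpowers x : Set G) := by
          rintro z hz g ⟨k, rfl⟩
          refine ⟨-k, ?_⟩
          show x ^ (-k) = z * x ^ k * z
          have : z * x ^ k * z⁻¹ = (z * x * z⁻¹) ^ k := conj_zpow.symm
          rw [hc.inv hz.1, hz.2] at this
          rw [this, zpow_neg, inv_zpow]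
        exact conj_mem_of_closure (fun g hg => hc.sq g hg.1) hgen t ht _ ⟨k, rfl⟩
      have := h.min.rad _ hn' (Group.isSolvable_of_comm fun u v => mul_comm' u v)
      rwa [Subgroup.zpowers_eq_bot] at this
    obtain ⟨hodd, -⟩ := hc.no_comm (h.min.sub I (fun z hz => hz.1) hItop) Subgroup.subset_closure
      (fun z hz => hz.1) hinv hpw hyI
    set N := Subgroup.closure {w | ∃ z ∈ I, z * y = w} with hN
    have hNc : ∀ n ∈ N, Commute n x := by
      have : N ≤ Subgroup.centralizer ({x} : Set G) := (Subgroup.closure_le _).2 (by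
        rintro _ ⟨z, hz, rfl⟩
        exact Subgroup.mem_centralizer_singleton_iff.2 (hxinv z hz y hyI).eq)
      exact fun n hn => Subgroup.mem_centralizer_singleton_iff.1 (this hn)
    have hNy : ∀ n ∈ N, y * n * y ∈ N := by
      have hle : N ≤ N.comap (MulAut.conj y).toMonoidHom := by
        rw [hN, Subgroup.closure_le]
        rintro _ ⟨z, hz, rfl⟩
        show y * (z * y) * y⁻¹ ∈ N
        have e : y * (z * y) * y⁻¹ = (z * y)⁻¹ := by
          rw [mul_inv_rev, hc.inv hy.1, hc.inv hz.1, mul_assoc y, mul_assoc z,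
            hc.sq y hy.1, mul_one]
        rw [e]
        exact N.inv_mem (Subgroup.subset_closure ⟨z, hz, rfl⟩)
      intro n hn
      have h1 : y * n * y⁻¹ ∈ N := hle hn
      rwa [hc.inv hy.1] at h1
    -- the orbit of `pb`
    have horb : ∀ d, ∀ hd : d ∈ D, x • h.pt d hd = h.pt d hd → h.pt d hd ≠ pa →
        h.pt d hd ∈ MulAction.orbit ↥N pb := by
      intro d hd hxd hne
      have had : ¬ Commute a d := fun e => hne (h.pt_eq.2 e.symm)
      obtain ⟨z, hz⟩ : (h.sw a d).Nonempty := by
        rw [← Set.ncard_pos (Set.toFinite _), h.sw_card ha hd had, h.blk_eq hd]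
        exact hc.prime.pos
      have hzI : z ∈ I := ⟨hz.1, hA d hd had hxd z hz⟩
      refine ⟨⟨z * y, Subgroup.subset_closure ⟨z, hzI, rfl⟩⟩, ?_⟩
      show (z * y) • pb = _
      rw [← hyab, ← mul_smul, mul_assoc, hc.sq y hy.1, mul_one, hpa, h.smul_pt, h.pt_eq,
        hc.inv hz.1]
      exact hz.2
    have hsub : ∀ ω ∈ MulAction.orbit ↥N pb, x • ω = ω := by
      rintro _ ⟨n, rfl⟩
      show x • (n : G) • pb = (n : G) • pb
      rw [← mul_smul, ← (hNc n n.2).eq, mul_smul, hxb]
    have hyy : ∀ ω : h.Om, y • y • ω = ω := fun ω => by rw [← mul_smul, hc.sq y hy.1, one_smul]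
    have hpa_not : pa ∉ MulAction.orbit ↥N pb := by
      intro hmem
      set O := MulAction.orbit ↥N pb with hO
      have hyO : ∀ ω ∈ O, y • ω ∈ O := by
        rintro _ ⟨n, rfl⟩
        have : y • (n : G) • pb = (y * n * y) • pa := by
          rw [← hyab, ← mul_smul, ← mul_smul]
        show y • (n : G) • pb ∈ O
        rw [this]
        obtain ⟨m, hm⟩ := hmem
        refine ⟨⟨y * n * y, hNy n n.2⟩ * m, ?_⟩
        show (y * (n : G) * y * (m : G)) • pb = _
        rw [mul_smul (y * (n : G) * y), show (m : G) • pb = pa from hm]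
      have hne_fix : ∀ ω ∈ O, y • ω ≠ ω := by
        intro ω hω e
        obtain ⟨d, hd, rfl⟩ := h.exists_pt ω
        have h1 := hsub _ hω
        rw [h.smul_pt, h.pt_eq] at h1 e
        rw [hc.inv hy.1] at e
        exact (h.fixes_block hy.1 hy'.1 hyn hd h1).1 (h.commute_of_moves hy.1 hd e)
      haveI := Fintype.ofFinite h.Om
      have heven : Even O.toFinset.card := even_card_of_involutive (fun ω => y • ω)
        (fun ω hω => Set.mem_toFinset.2 (hyO ω (Set.mem_toFinset.1 hω))) (fun ω _ => hyy ω)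
        (fun ω hω => hne_fix ω (Set.mem_toFinset.1 hω))
      have hdvd : O.toFinset.card ∣ Nat.card ↥N := by
        rw [← Set.ncard_eq_toFinset_card', ← MulAction.index_stabilizer]
        exact Subgroup.index_dvd_card _
      exact Nat.not_even_iff_odd.2 (hodd.of_dvd_nat hdvd) heven
    have hc1 : h.pt c hcD ∈ MulAction.orbit ↥N pb :=
      horb c hcD hxc fun e => hca (h.pt_eq.1 e).symm
    obtain ⟨n, hn'⟩ := hc1
    -- the image under `y` lies in the orbit of `pa`
    have hyc : y • h.pt c hcD = h.pt (y * c * y⁻¹) (hc.conj y c hcD) := h.smul_pt y c hcD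
    have hxyc : x • (y • h.pt c hcD) = y • h.pt c hcD := by
      have h1 : x⁻¹ • h.pt c hcD = h.pt c hcD := by
        conv_lhs => rw [← hxc]
        rw [inv_smul_smul]
      have e : x * y = y * x⁻¹ := by
        rw [hxdef, mul_inv_rev, hc.inv hy.1, hc.inv hy'.1]; group
      rw [← mul_smul, e, mul_smul, h1]
    have heq : y • h.pt c hcD = pa := by
      by_contra hne
      rw [hyc] at hxyc hne
      obtain ⟨m, hm⟩ := horb _ _ hxyc hne
      apply hpa_not
      refine ⟨⟨y * n * y, hNy n n.2⟩⁻¹ * m, ?_⟩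
      show ((y * (n : G) * y)⁻¹ * (m : G)) • pb = pa
      rw [mul_smul, show (m : G) • pb = _ from hm, ← hyc, ← hn', inv_smul_eq_iff]
      show y • (n : G) • pb = (y * (n : G) * y) • pa
      rw [← mul_smul, ← hyab, ← mul_smul]
    apply hcb
    refine h.pt_eq.1 (?_ : h.pt b hb = h.pt c hcD)
    rw [← hpb, ← hyab, ← heq, hyy]
  · push Not at hA
    obtain ⟨c, hcD, hca, hxc, z₀, hz₀, hz₀x⟩ := hA
    obtain ⟨z, hz, z', hz', hzne⟩ := (Set.one_lt_ncard (Set.toFinite _)).1
      (show 1 < (h.sw a c).ncard by rw [h.sw_card ha hcD hca, h.blk_eq hcD]; exact hc.prime.one_lt)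
    have hzn : ¬ Commute z z' := fun e => hzne (h.sw_pairwise ha hcD hca z hz z' hz' e)
    set x' := z * z' with hx'def
    have hx'p : x' ^ p = 1 := hc.pow_eq hz.1 hz'.1 hzn
    have hx'1 : x' ≠ 1 := hc.mul_ne_one hz.1 hz'.1 hzn
    have hSw := h.sw_invert ha hcD hca hz hz' hzne
    have hx'not : ∀ i : ℕ, x ≠ x' ^ i := by
      intro i e
      apply hz₀x
      have h1 : z₀ * x' * z₀⁻¹ = x'⁻¹ := by rw [hc.inv hz₀.1]; exact (hSw z₀ hz₀).2
      rw [e, ← hc.inv hz₀.1]
      conv_lhs => rw [hc.inv hz₀.1]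
      have h2 := conj_pow (i := i) (a := z₀) (b := x')
      rw [h1, hc.inv hz₀.1, inv_pow] at h2
      exact h2.symm
    set pc := h.pt c hcD with hpc
    have hx'a : x' • pa = pa := by rw [hpa, h.smul_pt, h.pt_eq]; exact hxfix ha hcD hz hz'
    have hx'c : x' • pc = pc := by rw [hpc, h.smul_pt, h.pt_eq]; exact hxfix' ha hcD hz hz'
    -- `x` and `x'` commute
    have hxsw : ∀ s ∈ h.sw a c, x * s * x⁻¹ ∈ h.sw a c := by
      intro s hs
      refine ⟨hc.conj x s hs.1, ?_⟩
      have h1 : (x * s * x⁻¹) • pa = pc := by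
        have e1 : s • pa = pc := by
          rw [hpa, hpc, h.smul_pt, h.pt_eq, hc.inv hs.1]; exact hs.2
        have e2 : x⁻¹ • pa = pa := by
          conv_lhs => rw [← hxa]
          rw [inv_smul_smul]
        rw [mul_smul, mul_smul, e2, e1, hxc]
      rw [hpa, hpc, h.smul_pt, h.pt_eq] at h1
      rwa [hc.inv (hc.conj x s hs.1)] at h1
    obtain ⟨i, hi⟩ : ∃ i : ℕ, x * x' * x⁻¹ = x' ^ i := by
      obtain ⟨⟨n1, e1⟩, -⟩ := hSw _ (hxsw z hz)
      obtain ⟨⟨n2, e2⟩, -⟩ := hSw _ (hxsw z' hz')
      refine ⟨n1 + (p - 1) * n2, ?_⟩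
      rw [hx'def, show x * (z * z') * x⁻¹ = (x * z * x⁻¹) * (x * z' * x⁻¹) by group, e1, e2]
      have hr : z' * z = (z * z')⁻¹ := by rw [mul_inv_rev, hc.inv hz.1, hc.inv hz'.1]
      rw [hr]
      set r := z * z' with hrdef
      have hzr : z * r⁻¹ * z = r := by
        rw [← hr, hrdef, mul_assoc, mul_assoc z', hc.sq z hz.1, mul_one]
      have hzn1 : z * (r⁻¹) ^ n1 * z = r ^ n1 := by
        have hcp := conj_pow (i := n1) (a := z) (b := r⁻¹)
        rw [hc.inv hz.1, hzr] at hcp
        exact hcp.symm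
      have hp1 : r⁻¹ = r ^ (p - 1) := inv_eq_of_mul_eq_one_right (by
        rw [← pow_succ', show p - 1 + 1 = p by have := hc.five; omega]; exact hx'p)
      calc z * r⁻¹ ^ n1 * (z * r⁻¹ ^ n2) = z * r⁻¹ ^ n1 * z * r⁻¹ ^ n2 := by group
        _ = r ^ n1 * r⁻¹ ^ n2 := by rw [hzn1]
        _ = r ^ (n1 + (p - 1) * n2) := by rw [hp1, ← pow_mul, ← pow_add]
    have hxx' : Commute x x' := by
      have hit : ∀ n : ℕ, x ^ n * x' * (x ^ n)⁻¹ = x' ^ (i ^ n) := by
        intro n
        induction n with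
        | zero => simp
        | succ n ih =>
          rw [show x ^ (n + 1) * x' * (x ^ (n + 1))⁻¹ = x * (x ^ n * x' * (x ^ n)⁻¹) * x⁻¹ by
            rw [pow_succ']; group, ih, ← conj_pow, hi, ← pow_mul, ← pow_succ']
      have h1 := hit p
      rw [hxp, inv_one, one_mul, mul_one] at h1
      have hmod : i ^ p ≡ i [MOD p] := by
        rw [← ZMod.natCast_eq_natCast_iff, Nat.cast_pow, ZMod.pow_card]
      have h2 : x' ^ (i ^ p) = x' ^ i := by
        rw [pow_eq_pow_mod (i ^ p) hx'p, pow_eq_pow_mod i hx'p, hmod]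
      rw [h2] at h1
      rw [← h1] at hi
      exact mul_inv_eq_iff_eq_mul.1 hi
    -- kernels
    have orbit_bij : ∀ d, ∀ hd : d ∈ D, x • h.pt d hd = h.pt d hd → ∀ e ∈ h.blk d,
        ∃ m : ℕ, x ^ m * d * (x ^ m)⁻¹ = e := by
      intro d hd hxd e he
      have hinj : Function.Injective (fun m : Fin p => x ^ (m : ℕ) * d * (x ^ (m : ℕ))⁻¹) := by
        intro m1 m2 e12
        by_contra hne
        wlog hlt : (m1 : ℕ) < m2 generalizing m1 m2
        · exact this e12.symm (Ne.symm hne) (by
            rcases Nat.lt_or_ge (m2 : ℕ) m1 with h' | h'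
            · exact h'
            · exact absurd (Fin.ext (by omega)) hne)
        obtain ⟨k, hk⟩ := Nat.exists_eq_add_of_lt hlt
        simp only at e12
        have h1 : Commute d (x ^ (k + 1)) := by
          rw [show (m2 : ℕ) = m1 + (k + 1) by omega, pow_add] at e12
          have e13 : d = x ^ (k + 1) * d * (x ^ (k + 1))⁻¹ := by
            have := congrArg (fun t => (x ^ (m1 : ℕ))⁻¹ * t * x ^ (m1 : ℕ)) e12
            simpa [mul_assoc] using this
          exact (mul_inv_eq_iff_eq_mul.1 e13.symm).symm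
        obtain ⟨s, hs⟩ := exists_pow_eq_of_not_dvd hc.prime hxp (i := k + 1) (fun hd' => by
          have := Nat.le_of_dvd (by omega) hd'
          have := m2.2
          omega)
        have h3 := h1.pow_right s
        rw [hs] at h3
        exact h.no_fixed hy.1 hy'.1 hyn hd h3
      have himg : (fun m : Fin p => x ^ (m : ℕ) * d * (x ^ (m : ℕ))⁻¹) '' Set.univ = h.blk d := by
        refine Set.eq_of_subset_of_ncard_le ?_ ?_ (Set.toFinite _)
        · rintro _ ⟨m, -, rfl⟩
          have hm : x ^ (m : ℕ) • h.pt d hd = h.pt d hd :=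
            pow_mem (show x ∈ MulAction.stabilizer G (h.pt d hd) from hxd) _
          rw [h.smul_pt, h.pt_eq] at hm
          exact ⟨hc.conj _ d hd, hm.symm⟩
        · rw [Set.ncard_image_of_injective _ hinj, Set.ncard_univ, Nat.card_eq_fintype_card,
            Fintype.card_fin, h.blk_eq hd]
      rw [← himg] at he
      obtain ⟨m, -, hm⟩ := he
      exact ⟨m, hm⟩
    have kernel : ∀ d, ∀ hd : d ∈ D, x • h.pt d hd = h.pt d hd → x' • h.pt d hd = h.pt d hd →
        ∃ m n : ℕ, x ^ m * x' ^ n ≠ 1 ∧ ∀ e ∈ h.blk d, Commute e (x ^ m * x' ^ n) := by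
      intro d hd hxd hx'd
      rw [h.smul_pt, h.pt_eq] at hx'd
      obtain ⟨m, hm⟩ := orbit_bij d hd hxd (x' * d * x'⁻¹) ⟨hc.conj x' d hd, hx'd.symm⟩
      refine ⟨(p - 1) * m, 1, ?_, ?_⟩
      · intro e
        rw [pow_one] at e
        have hx'eq : x' = x ^ m := by
          have hpm : x ^ ((p - 1) * m) * x ^ m = 1 := by
            rw [← pow_add, ← Nat.succ_mul, show (p - 1).succ = p by have := hc.five; omega,
              pow_mul, hxp, one_pow]
          exact mul_left_cancel (e.trans hpm.symm)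
        by_cases hd' : p ∣ m
        · obtain ⟨t, rfl⟩ := hd'
          rw [pow_mul, hxp, one_pow] at hx'eq
          exact hx'1 hx'eq
        · obtain ⟨s, hs⟩ := exists_pow_eq_of_not_dvd hc.prime hxp hd'
          rw [← hx'eq] at hs
          exact hx'not s hs.symm
      · intro e he
        rw [pow_one]
        set w := x ^ ((p - 1) * m) * x' with hwdef
        have hinvm : x ^ ((p - 1) * m) = (x ^ m)⁻¹ := by
          refine eq_inv_of_mul_eq_one_left ?_
          rw [← pow_add, ← Nat.succ_mul, show (p - 1).succ = p by have := hc.five; omega,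
            pow_mul, hxp, one_pow]
        have hwd : Commute d w := by
          have : w * d * w⁻¹ = d := by
            rw [hwdef, hinvm, show (x ^ m)⁻¹ * x' * d * ((x ^ m)⁻¹ * x')⁻¹
              = (x ^ m)⁻¹ * (x' * d * x'⁻¹) * x ^ m by group, ← hm]
            group
          exact (mul_inv_eq_iff_eq_mul.1 this).symm
        have hwx : Commute x w := ((Commute.refl x).pow_right _).mul_right hxx'
        obtain ⟨t, ht⟩ := orbit_bij d hd hxd e he
        rw [← ht]
        exact ((hwx.pow_left t).mul_left hwd).mul_left (hwx.pow_left t).inv_left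
    -- the group `P`
    set P := Subgroup.closure ({x, x'} : Set G) with hP
    have hxP : x ∈ P := Subgroup.subset_closure (by simp)
    have hx'P : x' ∈ P := Subgroup.subset_closure (by simp)
    have hPcomm : ∀ u ∈ P, ∀ v ∈ P, Commute u v := by
      intro u hu v hv
      have h1 : ∀ w ∈ ({x, x'} : Set G), P ≤ Subgroup.centralizer ({w} : Set G) := by
        intro w hw
        rw [hP, Subgroup.closure_le]
        intro t ht
        refine Subgroup.mem_centralizer_singleton_iff.2 ?_
        rcases hw with rfl | rfl <;> rcases ht with rfl | rfl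
        exacts [rfl, hxx'.symm.eq, hxx'.eq, rfl]
      have h2 : P ≤ Subgroup.centralizer ({u} : Set G) := by
        rw [hP, Subgroup.closure_le]
        intro w hw
        exact Subgroup.mem_centralizer_singleton_iff.2
          (Subgroup.mem_centralizer_singleton_iff.1 (h1 w hw hu)).symm
      exact (Subgroup.mem_centralizer_singleton_iff.1 (h2 hv)).symm
    have hPexp : ∀ u ∈ P, u ^ p = 1 := by
      intro u hu
      rw [hP] at hu
      induction hu using Subgroup.closure_induction with
      | mem w hw => rcases hw with rfl | rfl <;> assumption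
      | one => exact one_pow p
      | mul u v hu' hv' ihu ihv => rw [(hPcomm u hu' v hv').mul_pow, ihu, ihv, one_mul]
      | inv u _ ihu => rw [inv_pow, ihu, inv_one]
    have hPp : IsPGroup p ↥P := fun g => ⟨1, Subtype.ext (by simpa using hPexp g g.2)⟩
    set Stab := MulAction.stabilizer G pa ⊓ MulAction.stabilizer G pc with hStab
    have hPstab : P ≤ Stab := by
      rw [hP, Subgroup.closure_le]
      rintro w (rfl | rfl)
      exacts [⟨hxa, hxc⟩, ⟨hx'a, hx'c⟩]
    have hPcard : p ^ 2 ≤ Nat.card ↥P := by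
      have hpm : ∀ k : ℕ, k < p → x ^ k * x ^ (p - k) = 1 := fun k hk => by
        rw [← pow_add, show k + (p - k) = p by omega, hxp]
      let f : Fin p × Fin p → ↥P := fun q =>
        ⟨x ^ (q.1 : ℕ) * x' ^ (q.2 : ℕ), P.mul_mem (P.pow_mem hxP _) (P.pow_mem hx'P _)⟩
      have hinj : Function.Injective f := by
        rintro ⟨i1, j1⟩ ⟨i2, j2⟩ e
        have e' : x ^ (i1 : ℕ) * x' ^ (j1 : ℕ) = x ^ (i2 : ℕ) * x' ^ (j2 : ℕ) :=
          congrArg Subtype.val e
        have hij : ∀ i1 i2 : Fin p, ∀ j1 j2 : Fin p, (i1 : ℕ) < i2 →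
            x ^ (i1 : ℕ) * x' ^ (j1 : ℕ) = x ^ (i2 : ℕ) * x' ^ (j2 : ℕ) → False := by
          intro i1 i2 j1 j2 hlt e'
          obtain ⟨k, hk⟩ := Nat.exists_eq_add_of_lt hlt
          rw [show (i2 : ℕ) = i1 + (k + 1) by omega, pow_add, mul_assoc] at e'
          have e2 := mul_left_cancel e'
          obtain ⟨s, hs⟩ := exists_pow_eq_of_not_dvd hc.prime hxp (i := k + 1) (fun hd' => by
            have := Nat.le_of_dvd (by omega) hd'
            have := i2.2
            omega)
          apply hx'not (((j1 : ℕ) + (p - (j2 : ℕ))) * s)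
          rw [pow_mul, pow_add, e2, mul_assoc, ← pow_add,
            show (j2 : ℕ) + (p - (j2 : ℕ)) = p by have := j2.2; omega, hx'p, mul_one, hs]
        have hi : i1 = i2 := by
          rcases Nat.lt_trichotomy (i1 : ℕ) i2 with h' | h' | h'
          · exact (hij _ _ _ _ h' e').elim
          · exact Fin.ext h'
          · exact (hij _ _ _ _ h' e'.symm).elim
        subst hi
        have e2 := mul_left_cancel e'
        have ho : orderOf x' = p := hc.order hz.1 hz'.1 hzn
        exact Prod.ext rfl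
          (Fin.ext (pow_injOn_Iio_orderOf (by rw [ho]; exact j1.2) (by rw [ho]; exact j2.2) e2))
      have := Nat.card_le_card_of_injective f hinj
      rwa [Nat.card_prod, Nat.card_eq_fintype_card, Fintype.card_fin, ← pow_two] at this
    -- at most `p ^ 2`
    have small : ∀ Q : Subgroup G, IsPGroup p ↥Q → Q ≤ Stab → P ≤ Q → Nat.card ↥Q ≤ p ^ 2 := by
      intro Q hQp hQs hPQ
      have hblk : ∀ (d : G) (hd : d ∈ D) (g : G), g • h.pt d hd = h.pt d hd →
          ∀ e ∈ h.blk d, g * e * g⁻¹ ∈ h.blk d := fun d hd g hg e he => by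
        rw [h.smul_pt, h.pt_eq] at hg
        exact ⟨hc.conj g e he.1, h.trans hd (hc.conj g d hd) (hc.conj g e he.1) hg.symm
          ((commute_conj_iff g).2 he.2)⟩
      letI : MulAction ↥Q ↥(h.blk a) :=
        { smul := fun g e => ⟨(g : G) * e * (g : G)⁻¹, hblk a ha g (hQs g.2).1 e e.2⟩
          one_smul := fun e => Subtype.ext
            (show (1 : G) * e * (1 : G)⁻¹ = e by simp)
          mul_smul := fun g g' e => Subtype.ext
            (show (g : G) * g' * e * ((g : G) * g')⁻¹ = g * ((g' : G) * e * (g' : G)⁻¹) * (g : G)⁻¹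
              by group) }
      set φ := MulAction.toPermHom ↥Q ↥(h.blk a) with hφ
      have hrange : Nat.card ↥φ.range ≤ p := by
        obtain ⟨k, hk⟩ := IsPGroup.iff_card.1
          (hQp.of_surjective φ.rangeRestrict φ.rangeRestrict_surjective)
        have hdvd : Nat.card ↥φ.range ∣ Nat.factorial p := by
          refine (Subgroup.card_subgroup_dvd_card φ.range).trans ?_
          rw [Nat.card_perm, Nat.card_coe_set_eq, h.blk_eq ha]
        rw [hk] at hdvd ⊢
        have hk1 : k ≤ 1 := by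
          by_contra hk2
          have h2 : p ^ 2 ∣ Nat.factorial p := (pow_dvd_pow p (by omega)).trans hdvd
          rw [pow_two, ← Nat.mul_factorial_pred hc.prime.ne_zero] at h2
          have h3 := (hc.prime.dvd_factorial).1 (Nat.dvd_of_mul_dvd_mul_left hc.prime.pos h2)
          have := hc.five
          omega
        calc p ^ k ≤ p ^ 1 := Nat.pow_le_pow_right hc.prime.pos hk1
          _ = p := pow_one p
      have hker : Nat.card ↥φ.ker ≤ p := by
        obtain ⟨a2, ha2, hne2, haa2⟩ := h.exists_other ha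
        have hfa : ∀ g : ↥φ.ker, ∀ e ∈ h.blk a, Commute e ((g : ↥Q) : G) := by
          intro g e he
          have h1 := congrArg (fun π => π ⟨e, he⟩) (MonoidHom.mem_ker.1 g.2)
          have h2 : ((g : ↥Q) : G) * e * ((g : ↥Q) : G)⁻¹ = e := congrArg Subtype.val h1
          exact (mul_inv_eq_iff_eq_mul.1 h2).symm
        let f : ↥φ.ker → ↥(h.blk c) := fun g =>
          ⟨((g : ↥Q) : G) * c * ((g : ↥Q) : G)⁻¹, hblk c hcD _ (hQs (g : ↥Q).2).2 c
            ⟨hcD, Commute.refl c⟩⟩
        have hinj : Function.Injective f := by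
          intro g g' e
          have e' := congrArg Subtype.val e
          simp only [f] at e'
          by_contra hne
          set w := (((g' : ↥Q) : G))⁻¹ * ((g : ↥Q) : G) with hw
          have hw1 : w ≠ 1 := fun e1 => hne (Subtype.ext (Subtype.ext (inv_mul_eq_one.1 e1).symm))
          have hwc : Commute c w := by
            refine (mul_inv_eq_iff_eq_mul.1 (?_ : w * c * w⁻¹ = c)).symm
            rw [hw, show (((g' : ↥Q) : G))⁻¹ * ((g : ↥Q) : G) * c *
                ((((g' : ↥Q) : G))⁻¹ * ((g : ↥Q) : G))⁻¹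
              = (((g' : ↥Q) : G))⁻¹ * (((g : ↥Q) : G) * c * ((g : ↥Q) : G)⁻¹) * ((g' : ↥Q) : G)
              by group, e']
            group
          exact hca (h.cent_block hw1 ha ha2 hcD hne2 haa2
            ((hfa g' a ⟨ha, Commute.refl a⟩).inv_right.mul_right (hfa g a ⟨ha, Commute.refl a⟩))
            ((hfa g' a2 ⟨ha2, haa2⟩).inv_right.mul_right (hfa g a2 ⟨ha2, haa2⟩)) hwc).symm
        have := Nat.card_le_card_of_injective f hinj
        rwa [Nat.card_coe_set_eq (h.blk c), h.blk_eq hcD] at this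
      calc Nat.card ↥Q = φ.ker.index * Nat.card ↥φ.ker := (φ.ker.index_mul_card).symm
        _ ≤ p * p := Nat.mul_le_mul (by rw [Subgroup.index_ker]; exact hrange) hker
        _ = p ^ 2 := (pow_two p).symm
    have hPeq : Nat.card ↥P = p ^ 2 := le_antisymm (small P hPp hPstab le_rfl) hPcard
    -- `P` is not a Sylow subgroup
    obtain ⟨Q0, hQ0⟩ := hPp.exists_le_sylow
    have hne : P ≠ (Q0 : Subgroup G) := by
      intro e
      have h1 : (MulAction.stabilizer G pa).index = Nat.card h.Om := by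
        rw [MulAction.index_stabilizer]
        have : MulAction.orbit G pa = Set.univ := by
          refine Set.eq_univ_iff_forall.2 fun ω => ?_
          obtain ⟨d, hd, rfl⟩ := h.exists_pt ω
          obtain ⟨g, rfl⟩ := h.min.single a ha d hd
          exact ⟨g, rfl⟩
        rw [this, Set.ncard_univ]
      have h2 : p ∣ (Q0 : Subgroup G).index := by
        rw [← e]
        exact hn.trans (h1 ▸ Subgroup.index_dvd_of_le (hPstab.trans inf_le_left))
      exact Q0.not_dvd_index h2
    set P0 : Subgroup ↥(Q0 : Subgroup G) := P.subgroupOf Q0 with hP0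
    have hP0lt : P0 < ⊤ := lt_top_iff_ne_top.2 fun e => hne (le_antisymm hQ0
      (Subgroup.subgroupOf_eq_top.1 e))
    haveI : Group.IsNilpotent ↥(Q0 : Subgroup G) := Q0.isPGroup'.isNilpotent
    obtain ⟨g, hgN, hgP⟩ := SetLike.exists_of_lt (Group.normalizerCondition_of_isNilpotent P0 hP0lt)
    have hgnorm : ∀ u ∈ P, (g : G)⁻¹ * u * g ∈ P := by
      intro u hu
      have := (Subgroup.mem_normalizer_iff.1 (Subgroup.inv_mem _ hgN) ⟨u, hQ0 hu⟩).1 hu
      simpa [hP0, Subgroup.mem_subgroupOf] using this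
    have hmov : ¬ ((g : G) • pa = pa ∧ (g : G) • pc = pc) := by
      rintro ⟨e1, e2⟩
      set P1 := Subgroup.closure ((P : Set G) ∪ {(g : G)}) with hP1
      have hle1 : P1 ≤ (Q0 : Subgroup G) := by
        rw [hP1, Subgroup.closure_le]
        rintro w (hw | rfl)
        exacts [hQ0 hw, g.2]
      have hle2 : P1 ≤ Stab := by
        rw [hP1, Subgroup.closure_le]
        rintro w (hw | rfl)
        exacts [hPstab hw, ⟨e1, e2⟩]
      have hPle : P ≤ P1 := fun w hw => Subgroup.subset_closure (Or.inl hw)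
      have heq : P = P1 := Subgroup.eq_of_le_of_card_ge hPle
        (by rw [hPeq]; exact small P1 (Q0.isPGroup'.to_le hle1) hle2 hPle)
      apply hgP
      show (g : G) ∈ P
      rw [heq]
      exact Subgroup.subset_closure (Or.inr rfl)
    obtain ⟨p0, hp0P, hp0g⟩ : ∃ p0 : h.Om, (∀ u ∈ P, u • p0 = p0) ∧ (g : G) • p0 ≠ p0 := by
      by_cases e1 : (g : G) • pa = pa
      · exact ⟨pc, fun u hu => (hPstab hu).2, fun e2 => hmov ⟨e1, e2⟩⟩
      · exact ⟨pa, fun u hu => (hPstab hu).1, e1⟩
    set O := MulAction.orbit ↥(Subgroup.zpowers (g : G)) p0 with hO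
    have hOfix : ∀ ω ∈ O, ∀ u ∈ P, u • ω = ω := by
      have hz : Subgroup.zpowers (g : G) ≤ Subgroup.normalizer (P : Set G) := by
        rw [Subgroup.zpowers_le, Subgroup.mem_normalizer_iff]
        intro u
        constructor
        · intro hu
          have hle : P.map (MulAut.conj (g : G)⁻¹).toMonoidHom = P := by
            refine Subgroup.eq_of_le_of_card_ge ?_
              (le_of_eq (Subgroup.card_map_of_injective (MulAut.conj (g : G)⁻¹).injective).symm)
            rintro _ ⟨w, hw, rfl⟩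
            simpa using hgnorm w hw
          obtain ⟨w, hw, hwe⟩ : u ∈ P.map (MulAut.conj (g : G)⁻¹).toMonoidHom := by rwa [hle]
          have : w = (g : G) * u * (g : G)⁻¹ := by
            have e : (g : G)⁻¹ * w * g = u := by simpa using hwe
            rw [← e]; group
          rwa [← this]
        · intro hu
          have := hgnorm _ hu
          rwa [show (g : G)⁻¹ * ((g : G) * u * (g : G)⁻¹) * g = u by group] at this
      rintro _ ⟨⟨k, hk⟩, rfl⟩ u hu
      show u • k • p0 = k • p0
      have h1 : k⁻¹ * u * k ∈ P := by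
        have := (Subgroup.mem_normalizer_iff.1 (Subgroup.inv_mem _ (hz hk)) u).1 hu
        simpa using this
      calc u • k • p0 = k • (k⁻¹ * u * k) • p0 := by simp only [← mul_smul]; congr 1; group
        _ = k • p0 := by rw [hp0P _ h1]
    have hOp : p ≤ O.ncard := by
      obtain ⟨k, hk⟩ := (Q0.isPGroup'.to_le (by
        rw [Subgroup.zpowers_le]; exact g.2)).card_orbit p0
      rw [Nat.card_coe_set_eq] at hk
      rcases Nat.eq_zero_or_pos k with rfl | hk0
      · rw [pow_zero, Set.ncard_eq_one] at hk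
        obtain ⟨ω, hω⟩ := hk
        exfalso
        apply hp0g
        have h1 : p0 ∈ O := MulAction.mem_orbit_self p0
        have h2 : (g : G) • p0 ∈ O :=
          ⟨⟨(g : G), Subgroup.mem_zpowers (g : G)⟩, rfl⟩
        rw [hO, hω, Set.mem_singleton_iff] at h1 h2
        rw [h2, ← h1]
      · rw [hO, hk]
        exact Nat.le_self_pow (by omega) p
    have hker : ∀ ω : ↥O, ∃ w ∈ P, w ≠ 1 ∧
        ∃ d, ∃ hd : d ∈ D, h.pt d hd = ω.1 ∧ ∀ e ∈ h.blk d, Commute e w := by
      intro ω
      obtain ⟨d, hd, hdω⟩ := h.exists_pt ω.1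
      obtain ⟨m, n, hne1, hcen⟩ := kernel d hd (by rw [hdω]; exact hOfix _ ω.2 x hxP)
        (by rw [hdω]; exact hOfix _ ω.2 x' hx'P)
      exact ⟨_, P.mul_mem (P.pow_mem hxP m) (P.pow_mem hx'P n), hne1, d, hd, hdω, hcen⟩
    choose w hwP hw1 dd hdd hddω hcen using hker
    -- count elements
    have hnd : ∀ i : Fin (p - 1), ¬ p ∣ (i : ℕ) + 1 := fun i hd' => by
      have := Nat.le_of_dvd (by omega) hd'
      have := i.2
      omega
    let F : (Bool ⊕ ↥O) × Fin (p - 1) → {u : ↥P // u ≠ 1} := fun t => match t.1 with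
      | Sum.inl true => ⟨⟨x ^ ((t.2 : ℕ) + 1), P.pow_mem hxP _⟩, fun e => by
          obtain ⟨s, hs⟩ := exists_pow_eq_of_not_dvd hc.prime hxp (hnd t.2)
          rw [show x ^ ((t.2 : ℕ) + 1) = 1 from congrArg Subtype.val e, one_pow] at hs
          exact hx1 hs.symm⟩
      | Sum.inl false => ⟨⟨x' ^ ((t.2 : ℕ) + 1), P.pow_mem hx'P _⟩, fun e => by
          obtain ⟨s, hs⟩ := exists_pow_eq_of_not_dvd hc.prime hx'p (hnd t.2)
          rw [show x' ^ ((t.2 : ℕ) + 1) = 1 from congrArg Subtype.val e, one_pow] at hs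
          exact hx'1 hs.symm⟩
      | Sum.inr ω => ⟨⟨w ω ^ ((t.2 : ℕ) + 1), P.pow_mem (hwP ω) _⟩, fun e => by
          obtain ⟨s, hs⟩ := exists_pow_eq_of_not_dvd hc.prime (hPexp _ (hwP ω)) (hnd t.2)
          rw [show w ω ^ ((t.2 : ℕ) + 1) = 1 from congrArg Subtype.val e, one_pow] at hs
          exact hw1 ω hs.symm⟩
    have hord : ∀ {u : G} (i j : Fin (p - 1)), u ∈ P → u ≠ 1 →
        u ^ ((i : ℕ) + 1) = u ^ ((j : ℕ) + 1) → i = j := by
      intro u i j hu hu1 e
      have ho : orderOf u = p := orderOf_eq_prime (hPexp u hu) hu1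
      have hi := i.2
      have hj := j.2
      have := pow_injOn_Iio_orderOf (x := u) (by rw [ho]; show (i : ℕ) + 1 < p; omega)
        (by rw [ho]; show (j : ℕ) + 1 < p; omega) e
      exact Fin.ext (by omega)
    have hxw : ∀ (ω : ↥O) (i j : Fin (p - 1)), x ^ ((i : ℕ) + 1) ≠ w ω ^ ((j : ℕ) + 1) := by
      intro ω i j e
      obtain ⟨s, hs⟩ := exists_pow_eq_of_not_dvd hc.prime hxp (hnd i)
      refine h.no_fixed hy.1 hy'.1 hyn (hdd ω) ?_
      rw [← hxdef, ← hs, e]
      exact ((hcen ω _ ⟨hdd ω, Commute.refl _⟩).pow_right _).pow_right _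
    have hx'w : ∀ (ω : ↥O) (i j : Fin (p - 1)), x' ^ ((i : ℕ) + 1) ≠ w ω ^ ((j : ℕ) + 1) := by
      intro ω i j e
      obtain ⟨s, hs⟩ := exists_pow_eq_of_not_dvd hc.prime hx'p (hnd i)
      refine h.no_fixed hz.1 hz'.1 hzn (hdd ω) ?_
      rw [← hx'def, ← hs, e]
      exact ((hcen ω _ ⟨hdd ω, Commute.refl _⟩).pow_right _).pow_right _
    have hxx : ∀ i j : Fin (p - 1), x ^ ((i : ℕ) + 1) ≠ x' ^ ((j : ℕ) + 1) := by
      intro i j e
      obtain ⟨s, hs⟩ := exists_pow_eq_of_not_dvd hc.prime hxp (hnd i)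
      apply hx'not (((j : ℕ) + 1) * s)
      rw [pow_mul, ← e, hs]
    have hFinj : Function.Injective F := by
      rintro ⟨u1, i⟩ ⟨u2, j⟩ e
      have e' := congrArg (fun t : {u : ↥P // u ≠ 1} => ((t : ↥P) : G)) e
      rcases u1 with (_ | _) | ω <;> rcases u2 with (_ | _) | ω' <;> simp only [F] at e'
      · rw [hord i j hx'P hx'1 e']
      · exact absurd e'.symm (hxx j i)
      · exact absurd e' (hx'w ω' i j)
      · exact absurd e' (hxx i j)
      · rw [hord i j hxP hx1 e']
      · exact absurd e' (hxw ω' i j)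
      · exact absurd e'.symm (hx'w ω j i)
      · exact absurd e'.symm (hxw ω j i)
      · have hww : ω = ω' := by
          by_contra hne'
          obtain ⟨d2, hd2, hne2, hdd2⟩ := h.exists_other (hdd ω)
          have hcom : ∀ e ∈ h.blk (dd ω), Commute e (w ω ^ ((i : ℕ) + 1)) := fun e he =>
            (hcen ω e he).pow_right _
          refine hne' (Subtype.ext ?_)
          rw [← hddω ω, ← hddω ω', h.pt_eq]
          refine (h.cent_block (w := w ω ^ ((i : ℕ) + 1)) ?_ (hdd ω) hd2 (hdd ω') hne2 hdd2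
            (hcom _ ⟨hdd ω, Commute.refl _⟩) (hcom _ ⟨hd2, hdd2⟩) ?_).symm
          · intro e1
            obtain ⟨s, hs⟩ := exists_pow_eq_of_not_dvd hc.prime (hPexp _ (hwP ω)) (hnd i)
            rw [e1, one_pow] at hs
            exact hw1 ω hs.symm
          · rw [e']
            exact (hcen ω' _ ⟨hdd ω', Commute.refl _⟩).pow_right _
        subst hww
        rw [hord i j (hwP ω) (hw1 ω) e']
    have hle := Nat.card_le_card_of_injective F hFinj
    have hsub : Nat.card {u : ↥P // u ≠ 1} = p ^ 2 - 1 := by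
      haveI := Fintype.ofFinite ↥P
      rw [Nat.card_eq_fintype_card, Fintype.card_subtype_compl, Fintype.card_subtype_eq,
        ← Nat.card_eq_fintype_card, hPeq]
    rw [hsub, Nat.card_prod, Nat.card_sum, Nat.card_eq_fintype_card (α := Bool), Fintype.card_bool,
      Nat.card_fin, Nat.card_coe_set_eq O] at hle
    have h5 := hc.five
    have h6 : (2 + p) * (p - 1) ≤ p ^ 2 - 1 :=
      le_trans (Nat.mul_le_mul_right _ (by omega)) hle
    have h7 : (2 + p) * (p - 1) = p * p + p - 2 := by
      obtain ⟨q, rfl⟩ := Nat.exists_eq_add_of_le h5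
      simp only [Nat.add_sub_cancel_left, show 5 + q - 1 = 4 + q by omega]
      ring_nf
      omega
    rw [h7, pow_two] at h6
    omega

end BlockCase

end Cfsg.Agent.TwoPInvol
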