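import Cfsg.Agent.Lib.TwoPInvol.World

/-!
# There are no edges (owner: helper81)

In a minimal counterexample two distinct commuting members are twins: `Min.no_edge`.
-/

set_option autoImplicit false
set_option linter.unusedSectionVars false
set_option linter.style.haveILetI false

namespace Cfsg.Agent.TwoPInvol

/-- The Klein configuration forces `3 ∣ p`. -/
theorem klein {Q : Type*} [Group Q] {p : ℕ} (hp : ¬ 3 ∣ p) {a c u w : Q} (ha : a * a = 1)
    (hc : c * c = 1) (hu : u * u = 1) (hw : w * w = 1) (huw : Commute u w) (hau : Commute a u)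
    (hcw : Commute c w) (haw : a * w * a = w * u) (hcu : c * u * c = u * w)
    (hx : (a * c) ^ p = 1) : u = 1 := by
  have hai : a⁻¹ = a := inv_eq_of_mul_eq_one_right ha
  have hci : c⁻¹ = c := inv_eq_of_mul_eq_one_right hc
  set x := a * c with hxdef
  have hxi : x⁻¹ = c * a := by rw [hxdef, mul_inv_rev, hai, hci]
  have haa : a * u * a = u := by rw [hau.eq, mul_assoc, ha, mul_one]
  have hcc : c * w * c = w := by rw [hcw.eq, mul_assoc, hc, mul_one]
  have e1 : x * u * x⁻¹ = w := by
    rw [hxi, hxdef]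
    calc a * c * u * (c * a) = a * (c * u * c) * a := by group
      _ = a * u * a * (a⁻¹ * (w * a)) := by rw [hcu]; group
      _ = u * (a * w * a) := by rw [haa, hai]; group
      _ = w := by rw [haw, huw.symm.eq, ← mul_assoc, hu, one_mul]
  have e2 : x * w * x⁻¹ = w * u := by
    rw [hxi, hxdef]
    calc a * c * w * (c * a) = a * (c * w * c) * a := by group
      _ = w * u := by rw [hcc, haw]
  have e3 : x * (w * u) * x⁻¹ = u := by
    calc x * (w * u) * x⁻¹ = (x * w * x⁻¹) * (x * u * x⁻¹) := by group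
      _ = w * (u * w) := by rw [e1, e2]; group
      _ = u := by rw [huw.eq, ← mul_assoc, hw, one_mul]
  have h3 : Commute (x ^ 3) u := by
    have : x ^ 3 * u * (x ^ 3)⁻¹ = u := by
      calc x ^ 3 * u * (x ^ 3)⁻¹ = x * (x * (x * u * x⁻¹) * x⁻¹) * x⁻¹ := by
            simp only [pow_succ, pow_zero]; group
        _ = u := by rw [e1, e2, e3]
    exact mul_inv_eq_iff_eq_mul.1 this
  have hco : Nat.Coprime 3 p := (Nat.prime_three.coprime_iff_not_dvd).2 hp
  have hxu : Commute x u := by
    have hb := Int.gcd_eq_gcd_ab 3 p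
    have h1 : x = (x ^ 3) ^ (Int.gcdA 3 p) := by
      conv_lhs => rw [← zpow_one x]
      rw [show (1 : ℤ) = (Nat.gcd 3 p : ℕ) by rw [hco]; rfl]
      rw [show ((Nat.gcd 3 p : ℕ) : ℤ) = Int.gcd 3 p from rfl, hb, zpow_add, zpow_mul, zpow_mul,
        zpow_natCast x p, hx, one_zpow, mul_one]
      norm_cast
    rw [h1]
    exact h3.zpow_left _
  have hwu : w = u := by rw [← e1, hxu.eq, mul_inv_cancel_right]
  have h4 : x * w * x⁻¹ = 1 := by rw [e2, hwu, hu]
  have hw1 : w = 1 := by
    calc w = x⁻¹ * (x * w * x⁻¹) * x := by group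
      _ = 1 := by rw [h4]; group
  rw [← hwu, hw1]

variable {G : Type*} [Group G] [Finite G] {p : ℕ} {D : Set G}

namespace Min

variable (h : Min p D)
include h

/-- Adjacency. -/
def Conn (_h : Min p D) : G → G → Prop :=
  Relation.ReflTransGen fun x y => x ∈ D ∧ y ∈ D ∧ Commute x y

theorem exists_edge_at {a₀ b₀ : G} (he : Edge D a₀ b₀) {x : G} (hx : x ∈ D) : ∃ y, Edge D x y := by
  obtain ⟨g, rfl⟩ := h.single a₀ he.1 x hx
  exact ⟨_, h.ctx.edge_conj g he⟩

/-- The product of an edge is not in `D`. -/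
theorem edge_prod {a b : G} (he : Edge D a b) : a * b ∉ D := by
  intro hu
  obtain ⟨ha, hb, hab, htw⟩ := he
  have hne : a ≠ b := fun e => htw (e ▸ Tw.refl a)
  have h1 : ∀ d ∈ D, Commute (a * b) d → Commute a d ∧ Commute b d := fun d hd hc =>
    ⟨(h.ctx.cd ha hb hd hne hab hc.symm).1.symm, (h.ctx.cd ha hb hd hne hab hc.symm).2.symm⟩
  have ha' := h.tw_of_subset hu ha fun d hd hc => (h1 d hd hc).1
  have hb' := h.tw_of_subset hu hb fun d hd hc => (h1 d hd hc).2
  exact htw (ha'.symm.trans hb')

/-- Product of distinct twins is not in `D` once there is an edge. -/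
theorem twin_prod {a₀ b₀ : G} (he₀ : Edge D a₀ b₀) {a a' : G} (ha : a ∈ D) (ha' : a' ∈ D)
    (hne : a ≠ a') (ht : Tw D a a') : a * a' ∉ D := by
  obtain ⟨e, -, he, hae, htw⟩ := h.exists_edge_at he₀ ha
  obtain ⟨c, hc, hec, hac⟩ := h.exists_not_comm he ha fun t => htw t.symm
  exact h.prod_not_mem ha ha' hc hne (ht.comm ha') (fun hh => hac hh.symm)
    (fun hh => hac ((ht c hc).2 hh.symm)) (h.ctx.ne_one e he) hae ((ht e he).1 hae) hec.symm

theorem prod_not_D {a₀ b₀ : G} (he₀ : Edge D a₀ b₀) {a b : G} (ha : a ∈ D) (hb : b ∈ D)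
    (hne : a ≠ b) (hab : Commute a b) : a * b ∉ D := by
  by_cases ht : Tw D a b
  · exact h.twin_prod he₀ ha hb hne ht
  · exact h.edge_prod ⟨ha, hb, hab, ht⟩

/-- An edge makes the commuting graph connected. -/
theorem conn {a b : G} (he : Edge D a b) : ∀ x ∈ D, h.Conn a x := by
  obtain ⟨ha, hb, hab, htw⟩ := he
  have he : Edge D a b := ⟨ha, hb, hab, htw⟩
  have hsymm : ∀ x y, h.Conn x y → h.Conn y x := by
    intro x y hxy
    induction hxy with
    | refl => exact Relation.ReflTransGen.refl
    | tail _ huv ih => exact Relation.ReflTransGen.head ⟨huv.2.1, huv.1, huv.2.2.symm⟩ ih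
  have hconj : ∀ g x y, h.Conn x y → h.Conn (g * x * g⁻¹) (g * y * g⁻¹) := fun g x y hxy => by
    induction hxy with
    | refl => exact Relation.ReflTransGen.refl
    | tail _ huv ih =>
      exact ih.tail ⟨h.ctx.conj g _ huv.1, h.ctx.conj g _ huv.2.1,
        (commute_conj_iff g).2 huv.2.2⟩
  set B := {x | x ∈ D ∧ h.Conn a x} with hB
  by_contra hcon
  apply h.kernel_absurd h.Conn (fun x => Relation.ReflTransGen.refl) hsymm
    (fun x y z => Relation.ReflTransGen.trans) hconj ha hb he.ne
    (Relation.ReflTransGen.single ⟨ha, hb, hab⟩)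
  · intro htop
    apply hcon
    intro x hx
    have hgen : ∀ g ∈ D, ∀ y ∈ B, g * y * g ∈ B := by
      have hall : ∀ g : G, ∀ y ∈ B, g * y * g⁻¹ ∈ B := by
        intro g
        have hg : g ∈ Subgroup.closure B := by rw [htop]; exact Subgroup.mem_top g
        refine (Subgroup.closure_induction
          (p := fun g _ => (∀ y ∈ B, g * y * g⁻¹ ∈ B) ∧ ∀ y ∈ B, g⁻¹ * y * g⁻¹⁻¹ ∈ B)
          ?_ ⟨fun y hy => by simpa using hy, fun y hy => by simpa using hy⟩ ?_ ?_ hg).1
        · intro g hg
          have : ∀ y ∈ B, g * y * g⁻¹ ∈ B := fun y hy => by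
            refine ⟨h.ctx.conj g y hy.1, ?_⟩
            have h1 := hconj g _ _ ((hsymm _ _ hg.2).trans hy.2)
            rw [mul_inv_cancel_right] at h1
            exact hg.2.trans h1
          refine ⟨this, fun y hy => ?_⟩
          simpa [h.ctx.inv hg.1] using this y hy
        · intro u v _ _ hu hv
          exact ⟨fun y hy => by
              simpa [mul_assoc] using hu.1 _ (hv.1 y hy),
            fun y hy => by simpa [mul_assoc] using hv.2 _ (hu.2 y hy)⟩
        · intro u _ hu
          exact ⟨hu.2, fun y hy => by simpa using hu.1 y hy⟩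
      intro g hg y hy
      simpa [h.ctx.inv hg] using hall g y hy
    obtain ⟨g, rfl⟩ := h.single a ha x hx
    exact (h.invariant_of_gen hgen g a ⟨ha, Relation.ReflTransGen.refl⟩).2
  · intro x hx
    set u := a * b with hu
    have hu2 : u * u = 1 := mul_sq_one (h.ctx.sq a ha) (h.ctx.sq b hb) hab
    rw [conj_invol hu2]
    have hD := h.ctx.conj' u hu2 hx
    have hau : Commute a u := (Commute.refl a).mul_right hab
    have hbu : Commute b u := hab.symm.mul_right (Commute.refl b)
    by_cases h1 : Commute x a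
    · have h1' : Commute (u * x * u) a := by
        have := (commute_conj_invol_iff hu2).2 h1
        rwa [conj_fix hu2 hau.symm] at this
      exact (Relation.ReflTransGen.single ⟨hx, ha, h1⟩).tail ⟨ha, hD, h1'.symm⟩
    · by_cases h2 : Commute x b
      · have h2' : Commute (u * x * u) b := by
          have := (commute_conj_invol_iff hu2).2 h2
          rwa [conj_fix hu2 hbu.symm] at this
        exact (Relation.ReflTransGen.single ⟨hx, hb, h2⟩).tail ⟨hb, hD, h2'.symm⟩
      · exact Relation.ReflTransGen.single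
          ⟨hx, hD, h.key ha hb hx he.ne hab (h.edge_prod he) h1 h2⟩

/-- Selection: from two cross-commuting non-commuting pairs at `x`, one commutes with given `y`, `w`
at `x` that do not commute with each other. -/
theorem select {x g g' k k' y w : G} (hx : x ∈ D) (hg : g ∈ D) (hg' : g' ∈ D) (hk : k ∈ D)
    (hk' : k' ∈ D) (hy : y ∈ D) (hw : w ∈ D)
    (xg : Commute x g) (xg' : Commute x g') (xk : Commute x k) (xk' : Commute x k')
    (xy : Commute x y) (xw : Commute x w) (ngg : ¬ Commute g g') (nkk : ¬ Commute k k')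
    (gk : Commute g k) (gk' : Commute g k') (g'k : Commute g' k) (g'k' : Commute g' k')
    (nyw : ¬ Commute y w) :
    (Commute g y ∧ Commute g w ∧ Commute g' y ∧ Commute g' w) ∨
      (Commute k y ∧ Commute k w ∧ Commute k' y ∧ Commute k' w) := by
  have hx1 := h.ctx.ne_one x hx
  -- `same` at `x`
  have sm : ∀ {u v m q : G}, u ∈ D → v ∈ D → m ∈ D → q ∈ D → Commute x u → Commute x v →
      Commute x m → Commute x q → Commute u v → ¬ Commute m u → ¬ Commute m v →
      Commute u q → Commute v q := by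
    intro u v m q hu hv hm hq xu xv xm xq huv h1 h2 huq
    by_cases hne : u = v
    · rwa [← hne]
    exact h.same hu hv hm hq hne huv h1 h2 hx1 xu.symm xv.symm xm.symm xq.symm huq
  -- one member of either pair cannot both touch `{y, w}`
  have main : ∀ {a a' b : G}, a ∈ D → a' ∈ D → b ∈ D → Commute x a → Commute x a' → Commute x b →
      ¬ Commute a a' → Commute a b → Commute a' b →
      (¬ Commute a y ∨ ¬ Commute a w) → (¬ Commute b y ∨ ¬ Commute b w) → False := by
    intro a a' b ha ha' hb xa xa' xb naa hab ha'b hat hbt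
    -- a common non-commuting member gives the same set
    have fin : ∀ m ∈ D, Commute x m → ¬ Commute a m → ¬ Commute b m → False := fun m hm xm h1 h2 =>
      naa (sm hb ha hm ha' xb xa xm xa' hab.symm (fun e => h2 e.symm) (fun e => h1 e.symm)
        ha'b.symm)
    rcases hat with h1 | h1 <;> rcases hbt with h2 | h2
    · exact fin y hy xy h1 h2
    · by_cases h3 : Commute b y
      · -- `b`, `y` share `w`
        exact h1 (sm hb hy hw ha xb xy xw xa h3 (fun e => h2 e.symm) (fun e => nyw e.symm)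
          hab.symm).symm
      · exact fin y hy xy h1 h3
    · by_cases h3 : Commute b w
      · exact h1 (sm hb hw hy ha xb xw xy xa h3 (fun e => h2 e.symm) nyw hab.symm).symm
      · exact fin w hw xw h1 h3
    · exact fin w hw xw h1 h2
  by_cases hA : Commute g y ∧ Commute g w ∧ Commute g' y ∧ Commute g' w
  · exact Or.inl hA
  right
  have hT : (¬ Commute g y ∨ ¬ Commute g w) ∨ (¬ Commute g' y ∨ ¬ Commute g' w) := by tauto
  by_contra hB
  have hT' : (¬ Commute k y ∨ ¬ Commute k w) ∨ (¬ Commute k' y ∨ ¬ Commute k' w) := by tauto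
  rcases hT with t | t <;> rcases hT' with t' | t'
  · exact main hg hg' hk xg xg' xk ngg gk g'k t t'
  · exact main hg hg' hk' xg xg' xk' ngg gk' g'k' t t'
  · exact main hg' hg hk xg' xg xk (fun e => ngg e.symm) g'k gk t t'
  · exact main hg' hg hk' xg' xg xk' (fun e => ngg e.symm) g'k' gk' t t'

/-- No vertex sees two components. -/
theorem no_two_comp {a₀ b₀ : G} (he₀ : Edge D a₀ b₀) {x y q z w : G} (hx : x ∈ D) (hy : y ∈ D)
    (hq : q ∈ D) (hz : z ∈ D) (hw : w ∈ D) (xy : Commute x y) (xq : Commute x q)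
    (xz : Commute x z) (xw : Commute x w) (nyq : ¬ Commute y q) (nzw : ¬ Commute z w)
    (yz : Commute y z) (yw : Commute y w) (qz : Commute q z) (qw : Commute q w) : False := by
  -- such a configuration exists at every vertex
  have pair : ∀ v ∈ D, ∀ r ∈ D, ∀ s ∈ D, Commute v r → Commute v s → ¬ Commute r s →
      ∃ g ∈ D, ∃ g' ∈ D, ¬ Commute g g' ∧ Commute g v ∧ Commute g r ∧ Commute g s ∧
        Commute g' v ∧ Commute g' r ∧ Commute g' s := by
    intro v hv r hr s hs vr vs nrs
    obtain ⟨t, rfl⟩ := h.single x hx v hv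
    have c : ∀ {a b : G}, Commute a b → Commute (t * a * t⁻¹) (t * b * t⁻¹) :=
      fun e => (commute_conj_iff t).2 e
    have n : ∀ {a b : G}, ¬ Commute a b → ¬ Commute (t * a * t⁻¹) (t * b * t⁻¹) :=
      fun e e' => e ((commute_conj_iff t).1 e')
    rcases h.select hv (h.ctx.conj t y hy) (h.ctx.conj t q hq) (h.ctx.conj t z hz)
        (h.ctx.conj t w hw) hr hs (c xy) (c xq) (c xz) (c xw) vr vs (n nyq) (n nzw) (c yz) (c yw)
        (c qz) (c qw) nrs with ⟨e1, e2, e3, e4⟩ | ⟨e1, e2, e3, e4⟩
    · exact ⟨_, h.ctx.conj t y hy, _, h.ctx.conj t q hq, n nyq, (c xy).symm, e1, e2,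
        (c xq).symm, e3, e4⟩
    · exact ⟨_, h.ctx.conj t z hz, _, h.ctx.conj t w hw, n nzw, (c xz).symm, e1, e2,
        (c xw).symm, e3, e4⟩
  -- commuting members with a common non-commuting one, all at a vertex, are twins
  have claimA : ∀ v ∈ D, ∀ r ∈ D, ∀ r' ∈ D, ∀ s ∈ D, Commute v r → Commute v r' → Commute v s →
      Commute r r' → ¬ Commute s r → ¬ Commute s r' → Tw D r r' := by
    intro v hv r hr r' hr' s hs vr vr' vs rr' nsr nsr'
    by_cases hne : r = r'
    · rw [hne]; exact Tw.refl r'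
    have hv1 := h.ctx.ne_one v hv
    obtain ⟨g, hg, g', hg', ngg, gv, gr, gs, g'v, g'r, g's⟩ :=
      pair v hv r hr s hs vr vs (fun e => nsr e.symm)
    have gr' : Commute g r' :=
      (h.same hr hr' hs hg hne rr' nsr nsr' hv1 vr.symm vr'.symm vs.symm gv gr.symm).symm
    have g'r' : Commute g' r' :=
      (h.same hr hr' hs hg' hne rr' nsr nsr' hv1 vr.symm vr'.symm vs.symm g'v g'r.symm).symm
    refine h.tw_of_subset hr hr' fun k hk hrk => ?_
    by_contra nk
    by_cases hkg : Commute k g
    · -- at `g`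
      exact nk (h.same hr hr' hs hk hne rr' nsr nsr' (h.ctx.ne_one g hg) gr.symm gr'.symm gs.symm
        hkg hrk)
    · -- at `r`
      by_cases hgr' : g = r'
      · exact ngg (hgr' ▸ g'r'.symm)
      have := h.same hr' hg hk hg' (fun e => hgr' e.symm) gr'.symm (fun e => nk e.symm) hkg
        (h.ctx.ne_one r hr) rr'.symm gr hrk.symm g'r g'r'.symm
      exact ngg this
  have M1 : ∀ v ∈ D, ∀ r ∈ D, ∀ s ∈ D, Commute v r → Commute v s → ¬ Commute r s →
      ∀ k ∈ D, Commute s k → ¬ Tw D s k → Commute k r := by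
    intro v hv r hr s hs vr vs nrs k hk hsk htw
    by_contra nkr
    by_cases hvk : Commute v k
    · exact htw (claimA v hv s hs k hk r hr vs hvk vr hsk (fun e => nrs e)
        (fun e => nkr e.symm))
    · obtain ⟨g, hg, g', hg', ngg, gs, gv, gk, g's, g'v, g'k⟩ :=
        pair s hs v hv k hk vs.symm hsk hvk
      have hgr : Commute g r := by
        by_contra ngr
        by_cases hgs : g = s
        · exact ngg (hgs ▸ g's.symm)
        exact ngg (h.same hs hg hr hg' (fun e => hgs e.symm) gs.symm (fun e => nrs e)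
          (fun e => ngr e.symm) (h.ctx.ne_one v hv) vs.symm gv vr.symm g'v g's.symm)
      exact htw (claimA g hg s hs k hk r hr gs gk hgr hsk (fun e => nrs e) (fun e => nkr e.symm))
  -- distance at most two
  have dist2 : ∀ v ∈ D, ∀ r, h.Conn v r →
      r = v ∨ (r ∈ D ∧ ∃ m ∈ D, Commute m v ∧ Commute m r) := by
    intro v hv r hr
    induction hr with
    | refl => exact Or.inl rfl
    | @tail s k _ hsk ih =>
      obtain ⟨hs, hk, hsk⟩ := hsk
      rcases ih with rfl | ⟨_, m, hm, mv, ms⟩
      · exact Or.inr ⟨hk, s, hs, Commute.refl s, hsk⟩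
      by_cases hvs : Commute v s
      · exact Or.inr ⟨hk, s, hs, hvs.symm, hsk⟩
      by_cases ht : Tw D s k
      · exact Or.inr ⟨hk, m, hm, mv, ((ht m hm).1 ms.symm).symm⟩
      exact Or.inr ⟨hk, v, hv, Commute.refl v, (M1 m hm v hv s hs mv ms hvs k hk hsk ht).symm⟩
  obtain ⟨b, heb⟩ := h.exists_edge_at he₀ hx
  have hall := h.split (M := {d | d ∈ D ∧ (¬ Commute x d ∨ Tw D x d)}) (fun d hd => hd.1)
    (a := x) ⟨hx, Or.inr (Tw.refl x)⟩ (by
      intro d hd hdM r hr
      simp only [Set.mem_setOf_eq, not_and, not_or, not_not] at hdM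
      obtain ⟨hxd, hnt⟩ := hdM hd
      rcases hr.2 with nxr | ht
      · rcases dist2 x hx r (h.conn heb r hr.1) with rfl | ⟨_, m, hm, mx, mr⟩
        · exact absurd (Commute.refl r) nxr
        exact M1 m hm r hr.1 x hx mr mx (fun e => nxr e.symm) d hd hxd hnt
      · exact ((ht d hd).1 hxd).symm)
  rcases (hall b heb.2.1).2 with e | e
  · exact e heb.2.2.1
  · exact heb.2.2.2 e

/-- At a vertex, commuting is transitive outside its twin class. -/
theorem line {x y z q : G} (hx : x ∈ D) (hy : y ∈ D) (hz : z ∈ D) (hq : q ∈ D)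
    (xy : Commute x y) (xq : Commute x q) (hxz : Edge D x z) (yz : Commute y z)
    (zq : Commute z q) : Commute y q := by
  by_cases hne : y = z
  · rwa [hne]
  by_cases hne' : q = z
  · rwa [hne']
  obtain ⟨w, hw, xw, nzw⟩ := h.exists_not_comm hx hz hxz.2.2.2
  have hx1 := h.ctx.ne_one x hx
  by_cases hyw : Commute y w
  · by_cases hqw : Commute q w
    · by_contra nyq
      exact h.no_two_comp hxz hx hy hq hz hw xy xq hxz.2.2.1 xw nyq nzw yz hyw zq.symm hqw
    · exact (h.same hz hq hw hy (Ne.symm hne') zq (fun e => nzw e.symm) (fun e => hqw e.symm) hx1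
        hxz.2.2.1.symm xq.symm xw.symm xy.symm yz.symm).symm
  · exact h.same hz hy hw hq (Ne.symm hne) yz.symm (fun e => nzw e.symm) (fun e => hyw e.symm) hx1
      hxz.2.2.1.symm xy.symm xw.symm xq.symm zq

/-- An element commuting with an edge product permutes the two twin classes. -/
theorem delta {a b w : G} (he : Edge D a b) (hw : Commute w (a * b)) :
    (Tw D a (w * a * w⁻¹) ∧ Tw D b (w * b * w⁻¹)) ∨
      (Tw D a (w * b * w⁻¹) ∧ Tw D b (w * a * w⁻¹)) := by
  set a' := w * a * w⁻¹ with ha'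
  set b' := w * b * w⁻¹ with hb'
  have he' : Edge D a' b' := h.ctx.edge_conj w he
  have hprod : a' * b' = a * b := by
    rw [ha', hb', show w * a * w⁻¹ * (w * b * w⁻¹) = w * (a * b) * w⁻¹ by group, hw.eq,
      mul_inv_cancel_right]
  have hca : Commute a' (a * b) := by
    rw [← hprod]; exact (Commute.refl a').mul_right he'.2.2.1
  have hcb : Commute b' (a * b) := by
    rw [← hprod]; exact he'.2.2.1.symm.mul_right (Commute.refl b')
  have side : ∀ (x y : G), Edge D x y → a' * b' = x * y → Commute a' (x * y) →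
      Commute b' (x * y) → Tw D x a' ∨ Tw D x b' := by
    clear hprod hca hcb he
    intro a b he hprod hca hcb
    obtain ⟨ha, hb, hab, htw⟩ := id he
    obtain ⟨f, hf, haf, hbf⟩ := h.exists_not_comm ha hb htw
    have ca := h.ctx.cd ha hb he'.1 he.ne hab hca
    have cb := h.ctx.cd ha hb he'.2.1 he.ne hab hcb
    by_contra hno
    push Not at hno
    have n1 : ¬ Commute f a' := fun e => hbf (h.line ha hb he'.1 hf hab haf
      ⟨ha, he'.1, ca.1.symm, hno.1⟩ ca.2.symm e.symm)
    have n2 : ¬ Commute f b' := fun e => hbf (h.line ha hb he'.2.1 hf hab haf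
      ⟨ha, he'.2.1, cb.1.symm, hno.2⟩ cb.2.symm e.symm)
    have hk := h.key he'.1 he'.2.1 hf he'.ne he'.2.2.1 (h.edge_prod he') n1 n2
    rw [hprod] at hk
    have e : a * b * f * (a * b) = b * f * b := by
      calc a * b * f * (a * b) = b * a * f * (a * b) := by rw [hab.eq]
        _ = b * (a * f) * a * b := by group
        _ = b * (f * a) * a * b := by rw [haf.eq]
        _ = b * f * (a * a) * b := by group
        _ = b * f * b := by rw [h.ctx.sq a ha, mul_one]
    rw [e] at hk
    exact h.ctx.not_comm_conj hf hb (fun e => hbf e.symm) hk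
  have hab : a * b = b * a := he.2.2.1.eq
  rcases side a b he hprod hca hcb with t | t <;>
    rcases side b a he.symm (hprod.trans hab) (hab ▸ hca) (hab ▸ hcb) with t' | t'
  · exact absurd (t.trans t'.symm) he.2.2.2
  · exact Or.inl ⟨t, t'⟩
  · exact Or.inr ⟨t, t'⟩
  · exact absurd (t.trans t'.symm) he.2.2.2

/-- Twin products fix twin classes at distance two. -/
theorem twin_dist {a a' e c : G} (ha' : a' ∈ D) (hne : a ≠ a') (ht : Tw D a a')
    (hea : Edge D e a) (hc : c ∈ D) (hec : Commute e c) :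
    Tw D c ((a * a') * c * (a * a')) := by
  obtain ⟨he, ha, eac, -⟩ := id hea
  set u := a * a' with hu
  have haa := ht.comm ha'
  have hu2 : u * u = 1 := mul_sq_one (h.ctx.sq a ha) (h.ctx.sq a' ha') haa
  by_cases hca : Commute c a
  · rw [conj_fix hu2 (hca.mul_right ((ht c hc).1 hca.symm).symm).symm]
    exact Tw.refl c
  have hca' : ¬ Commute c a' := fun e' => hca ((ht c hc).2 e'.symm).symm
  have hau : Commute a u := (Commute.refl a).mul_right haa
  have heu : Commute e u := eac.mul_right ((ht e he).1 eac.symm).symm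
  set c' := u * c * u with hc'def
  have hc' : c' ∈ D := h.ctx.conj' u hu2 hc
  have hcc' : Commute c c' := h.key ha ha' hc hne haa (h.twin_prod hea ha ha' hne ht) hca hca'
  have hec' : Commute e c' := by
    have := (commute_conj_invol_iff hu2).2 hec
    rwa [conj_fix hu2 heu.symm] at this
  have hc'a : ¬ Commute c' a := fun e' => hca (by
    have := (commute_conj_invol_iff hu2).2 e'
    rwa [hc'def, conj_conj_invol hu2, conj_fix hu2 hau.symm] at this)
  by_contra hnt
  obtain ⟨f, hf, hcf, hc'f⟩ := h.exists_not_comm hc hc' hnt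
  have hEec : Edge D e c := ⟨he, hc, hec, fun t => hca ((t a ha).1 eac).symm.symm⟩
  have hEec' : Edge D e c' := ⟨he, hc', hec', fun t => hc'a ((t a ha).1 eac).symm.symm⟩
  have hef : ¬ Commute e f := fun e' =>
    hc'f (h.line he hf hc hc' e' hec' hEec hcf.symm hcc').symm
  have hfa : ¬ Commute f a := fun e' => by
    have hfu : u * f * u = f :=
      conj_fix hu2 (e'.mul_right ((ht f hf).1 e'.symm).symm).symm
    have h1 := (commute_conj_invol_iff hu2).2 hcf
    rw [hfu] at h1
    exact hc'f h1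
  have hfa' : ¬ Commute f a' := fun e' => hfa ((ht f hf).2 e'.symm).symm
  set f' := u * f * u with hf'def
  have hf' : f' ∈ D := h.ctx.conj' u hu2 hf
  have hff' : Commute f f' := h.key ha ha' hf hne haa (h.twin_prod hea ha ha' hne ht) hfa hfa'
  have hc'f' : Commute c' f' := (commute_conj_invol_iff hu2).2 hcf
  have hef' : ¬ Commute e f' := fun e' => hef (by
    have := (commute_conj_invol_iff hu2).2 e'
    rwa [conj_fix hu2 heu.symm, hf'def, conj_conj_invol hu2] at this)
  have hcf' : ¬ Commute c f' := fun e' => hc'f (by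
    have := (commute_conj_invol_iff hu2).2 e'
    rwa [hf'def, conj_conj_invol hu2] at this)
  have hnef : f ≠ f' := fun e' => hc'f (e' ▸ hc'f')
  have hEff : Edge D f f' := ⟨hf, hf', hff', fun t => hc'f ((t c' hc').2 hc'f'.symm).symm⟩
  set v := f * f' with hv
  have hv2 : v * v = 1 := mul_sq_one (h.ctx.sq f hf) (h.ctx.sq f' hf') hff'
  set e1 := v * e * v with he1def
  have he1 : e1 ∈ D := h.ctx.conj' v hv2 he
  have hee1 : Commute e e1 := h.key hf hf' he hnef hff' (h.edge_prod hEff) hef hef'
  have hvu : Commute v u := by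
    refine (commute_of_conj_fix hu2 ?_).symm
    rw [hv, show u * (f * f') * u = u * f * (u * u) * f' * u by rw [hu2]; group,
      show u * f * (u * u) * f' * u = u * f * u * (u * f' * u) by group, ← hf'def, hf'def,
      conj_conj_invol hu2]
    exact hff'.symm.eq
  have htwa : Tw D a (v * a * v) := by
    rw [← conj_invol hv2]; exact h.conj_twin ha ha' hne ht hvu
  have he1a : Commute e1 a :=
    ((htwa e1 he1).2 ((commute_conj_invol_iff hv2).2 eac.symm)).symm
  set c1 := f' * c * f' with hc1def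
  have hc1 : c1 ∈ D := h.ctx.conjD hf' hc
  have hvc : v * c * v = c1 := by
    calc v * c * v = f * f' * c * (f * f') := rfl
      _ = f' * f * c * (f * f') := by rw [hff'.eq]
      _ = f' * (f * c) * f * f' := by group
      _ = f' * (c * f) * f * f' := by rw [hcf.symm.eq]
      _ = f' * c * (f * f) * f' := by group
      _ = c1 := by rw [h.ctx.sq f hf, mul_one]
  have hc1c' : Commute c1 c' := (hc'f'.mul_right hcc'.symm).mul_right hc'f' |>.symm
  have hncc1 : ¬ Commute c c1 := h.ctx.not_comm_conj hc hf' hcf'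
  have hec1 : ¬ Commute e c1 := fun e' => hncc1 (h.line he hc hc' hc1 hec e' hEec' hcc' hc1c'.symm)
  have hce1 : ¬ Commute c e1 := fun e' => hec1 (by
    have := (commute_conj_invol_iff hv2).2 e'
    rw [he1def, conj_conj_invol hv2, hvc] at this
    exact this.symm)
  have hEee1 : Edge D e e1 := ⟨he, he1, hee1, fun t => hce1 ((t c hc).1 hec).symm⟩
  -- reach `e1` from `a`
  set ClA := {d | d ∈ D ∧ Commute e d ∧ Commute a d ∧ ¬ Tw D e d} with hClA
  set ClC := {d | d ∈ D ∧ Commute e d ∧ Commute c d ∧ ¬ Tw D e d} with hClC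
  have hcard : ClA.ncard ≤ ClC.ncard := by
    obtain ⟨g, hg, hgc⟩ := h.ctx.exists_conj ha hc (fun e' => hca e'.symm)
    have hge : g * e * g⁻¹ = e := by
      have hle : Subgroup.closure ({a, c} : Set G) ≤ Subgroup.centralizer ({e} : Set G) :=
        (Subgroup.closure_le _).2 (by
          rintro z (rfl | rfl)
          · exact Subgroup.mem_centralizer_singleton_iff.2 eac.symm.eq
          · exact Subgroup.mem_centralizer_singleton_iff.2 hec.symm.eq)
      rw [Subgroup.mem_centralizer_singleton_iff.1 (hle hg), mul_inv_cancel_right]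
    refine Set.ncard_le_ncard_of_injOn (fun d => g * d * g⁻¹) (fun d hd => ?_)
      (fun z _ w _ e' => by simpa using e') (Set.toFinite _)
    refine ⟨h.ctx.conj g d hd.1, ?_, ?_, ?_⟩
    · rw [← hge, commute_conj_iff]; exact hd.2.1
    · rw [← hgc, commute_conj_iff]; exact hd.2.2.1
    · rw [← hge, h.ctx.tw_conj_iff]; exact hd.2.2.2
  set Φ : G → G := fun c'' => c * c'' * a * (c * c'') with hΦ
  have hCl : ∀ c'' ∈ ClC, ¬ Commute c'' a := fun c'' hm hh => hca (h.line he hc hm.1 ha hec eac
    ⟨he, hm.1, hm.2.1, hm.2.2.2⟩ hm.2.2.1 hh)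
  have hΦmem : ∀ c'' ∈ ClC, Φ c'' ∈ ClA := by
    intro c'' hm
    obtain ⟨hc'', ec'', cc'', -⟩ := id hm
    have hs : c * c'' * (c * c'') = 1 := mul_sq_one (h.ctx.sq c hc) (h.ctx.sq c'' hc'') cc''
    refine ⟨h.ctx.conj' _ hs ha, ?_, ?_, ?_⟩
    · have := (commute_conj_invol_iff hs).2 eac
      rwa [conj_fix hs (hec.mul_right ec'').symm] at this
    · by_cases hcc : c = c''
      · have : Φ c'' = a := by simp [hΦ, ← hcc, h.ctx.sq c hc]
        rw [this]
      · exact h.key hc hc'' ha hcc cc'' (h.prod_not_D hea hc hc'' hcc cc'') (fun e' => hca e'.symm)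
          (fun e' => hCl c'' hm e'.symm)
    · intro t
      have t' := h.ctx.tw_conj' hs t
      rw [conj_fix hs (hec.mul_right ec'').symm, hΦ, conj_conj_invol hs] at t'
      exact hea.2.2.2 t'
  have hinj : Set.InjOn Φ ClC := by
    intro c₁ h₁ c₂ h₂ heq
    by_contra hne12
    obtain ⟨k₁, ec₁, cc₁, -⟩ := id h₁
    obtain ⟨k₂, ec₂, cc₂, nt₂⟩ := id h₂
    have h12 : Commute c₁ c₂ := h.line he k₁ hc k₂ ec₁ ec₂ hEec cc₁.symm cc₂
    simp only [hΦ] at heq
    have e2 : ∀ {d : G}, Commute c d → c * d * a * (c * d) = c * (d * a * d) * c := fun {d} hd => by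
      calc c * d * a * (c * d) = c * d * a * (d * c) := by rw [hd.eq]
        _ = _ := by group
    rw [e2 cc₁, e2 cc₂] at heq
    have e3 := mul_left_cancel (mul_right_cancel heq)
    refine hCl c₁ h₁ (h.ctx.cd k₁ k₂ ha hne12 h12 ?_).1.symm
    show a * (c₁ * c₂) = c₁ * c₂ * a
    have hc1s := h.ctx.sq c₁ k₁
    have hc2s := h.ctx.sq c₂ k₂
    calc a * (c₁ * c₂) = c₁ * (c₁ * a * c₁) * c₂ := by
          rw [show c₁ * (c₁ * a * c₁) * c₂ = c₁ * c₁ * a * c₁ * c₂ by group, hc1s]; group
      _ = c₁ * (c₂ * a * c₂) * c₂ := by rw [e3]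
      _ = c₁ * c₂ * a * (c₂ * c₂) := by group
      _ = c₁ * c₂ * a := by rw [hc2s, mul_one]
  have hsurj : Φ '' ClC = ClA :=
    Set.eq_of_subset_of_ncard_le (Set.image_subset_iff.2 hΦmem)
      (hcard.trans (Set.ncard_image_of_injOn hinj).ge) (Set.toFinite _)
  obtain ⟨c'', hm'', hΦc''⟩ :=
    hsurj.ge (show e1 ∈ ClA from ⟨he1, hee1, he1a.symm, hEee1.2.2.2⟩)
  obtain ⟨hc'', ec'', cc'', -⟩ := id hm''
  have hc'c'' : Commute c' c'' := h.line he hc' hc hc'' hec' ec'' hEec hcc'.symm cc''
  set w := c * c' with hwdef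
  have hw2 : w * w = 1 := mul_sq_one (h.ctx.sq c hc) (h.ctx.sq c' hc') hcc'
  have hwu : Commute w u := by
    refine (commute_of_conj_fix hu2 ?_).symm
    rw [hwdef, show u * (c * c') * u = u * c * (u * u) * c' * u by rw [hu2]; group,
      show u * c * (u * u) * c' * u = u * c * u * (u * c' * u) by group, ← hc'def, hc'def,
      conj_conj_invol hu2]
    exact hcc'.symm.eq
  have hwa : Tw D a (w * a * w) := by
    rw [← conj_invol hw2]; exact h.conj_twin ha ha' hne ht hwu
  have hwm : Commute w (c * c'') :=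
    ((Commute.refl c).mul_left hcc'.symm).mul_right (cc''.mul_left hc'c'')
  have hs : c * c'' * (c * c'') = 1 := mul_sq_one (h.ctx.sq c hc) (h.ctx.sq c'' hc'') cc''
  have hwe1 : Tw D e1 (w * e1 * w) := by
    have h1 := h.ctx.tw_conj' hs hwa
    rw [← hΦc'']
    convert h1 using 1
    calc w * Φ c'' * w = w * (c * c'') * a * ((c * c'') * w) := by simp only [hΦ]; group
      _ = (c * c'') * w * a * (w * (c * c'')) := by rw [hwm.eq]
      _ = c * c'' * (w * a * w) * (c * c'') := by group
  have hc1e1 : Commute c1 e1 := by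
    have := (commute_conj_invol_iff hv2).2 hec
    rw [hvc] at this
    exact this.symm
  have h2 : Commute (w * c1 * w) e1 :=
    ((hwe1 (w * c1 * w) (h.ctx.conj' w hw2 hc1)).2 ((commute_conj_invol_iff hw2).2 hc1e1.symm)).symm
  set z := v * (w * c1 * w) * v with hzdef
  have hz : z ∈ D := h.ctx.conj' v hv2 (h.ctx.conj' w hw2 hc1)
  have hze : Commute e z := by
    have := (commute_conj_invol_iff hv2).2 h2
    rw [he1def, conj_conj_invol hv2] at this
    exact this.symm
  have hzf : z = f' * c * f' * c * f' * c * f' := by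
    have e4 : w * c1 * w = c * c1 * c := by
      calc w * c1 * w = c * (c' * c1) * (c * c') := by rw [hwdef]; group
        _ = c * (c1 * c') * (c' * c) := by rw [hc1c'.symm.eq, hcc'.eq]
        _ = c * c1 * (c' * c') * c := by group
        _ = c * c1 * c := by rw [h.ctx.sq c' hc', mul_one]
    have hfc1 : Commute f (c * c1 * c) :=
      (hcf.symm.mul_right ((hff'.mul_right hcf.symm).mul_right hff')).mul_right hcf.symm
    calc z = f * f' * (c * c1 * c) * (f * f') := by rw [hzdef, e4]
      _ = f' * f * (c * c1 * c) * (f * f') := congrArg (· * (c * c1 * c) * (f * f')) hff'.eq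
      _ = f' * (f * (c * c1 * c)) * f * f' := by group
      _ = f' * (c * c1 * c) * (f * f) * f' := by rw [hfc1.eq]; group
      _ = _ := by rw [h.ctx.sq f hf, hc1def]; group
  have hzc' : Commute c' z := by
    rw [hzf]
    have A := hc'f'
    have B := hcc'.symm
    exact ((((((A.mul_right B).mul_right A).mul_right B).mul_right A).mul_right B).mul_right A)
  have hzc := h.line he hc hc' hz hec hze hEec' hcc' hzc'
  have h8 : ((c * f') ^ 4) ^ 2 = 1 := by
    have := (commute_iff_sq (h.ctx.sq c hc) (h.ctx.sq z hz)).1 hzc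
    rwa [show c * z = (c * f') ^ 4 by rw [hzf]; simp only [pow_succ, pow_zero]; group] at this
  rw [← pow_mul] at h8
  refine h.ctx.mul_ne_one hc hf' hcf' (eq_one_of_pow_prime_of_pow_ne h.ctx.prime (fun hd => ?_)
    (h.ctx.pow_eq hc hf' hcf') h8)
  have h2' : p ∣ 2 ^ 3 := hd
  have := (Nat.prime_dvd_prime_iff_eq h.ctx.prime Nat.prime_two).1 (h.ctx.prime.dvd_of_dvd_pow h2')
  have := h.ctx.five
  omega

/-- A pure member is moved out of its twin class. -/
theorem moved {e a g c : G} (hea : Edge D e a) (heg : Edge D e g) (hag : Edge D a g) (hc : c ∈ D)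
    (hec : Commute e c) (hca : ¬ Commute c a) (hcg : ¬ Commute c g) :
    ¬ Tw D c ((a * g) * c * (a * g)) := by
  intro htw
  obtain ⟨ha, hg, hag', hagt⟩ := id hag
  have he := hea.1
  set S := {d | d ∈ D ∧ Commute e d ∧ Commute a d ∧ ¬ Tw D e d ∧
    Tw D c (a * d * c * (a * d))} with hS
  have hWS : insert g {d | d ∈ D ∧ Tw D a d} ⊆ S := by
    rintro d (rfl | ⟨hd, htd⟩)
    · exact ⟨hg, heg.2.2.1, hag', heg.2.2.2, htw⟩
    · refine ⟨hd, ((htd e he).1 hea.2.2.1.symm).symm, htd.comm hd,
        fun t => hea.2.2.2 (t.trans htd.symm), ?_⟩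
      by_cases had : a = d
      · subst had; rw [h.ctx.sq a ha]; simpa using Tw.refl c
      · exact h.twin_dist hd had htd hea hc hec
  have hSW : S.ncard ≤ {d | d ∈ D ∧ Tw D c d}.ncard := by
    refine Set.ncard_le_ncard_of_injOn (fun d => a * d * c * (a * d))
      (fun d hd => ⟨h.ctx.conj' _ (mul_sq_one (h.ctx.sq a ha) (h.ctx.sq d hd.1) hd.2.2.1) hc,
        hd.2.2.2.2⟩) ?_ (Set.toFinite _)
    intro d₁ h₁ d₂ h₂ heq
    by_contra hne
    have hcd : ∀ d ∈ S, ¬ Commute c d := fun d hd hh => hca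
      (h.line he hc hd.1 ha hec hea.2.2.1 ⟨he, hd.1, hd.2.1, hd.2.2.2.1⟩ hh hd.2.2.1.symm)
    have h12 : Commute d₁ d₂ := h.line he h₁.1 ha h₂.1 h₁.2.1 h₂.2.1 hea h₁.2.2.1.symm h₂.2.2.1
    have e2 : ∀ {d : G}, Commute a d → a * d * c * (a * d) = a * (d * c * d) * a := fun {d} hd => by
      calc a * d * c * (a * d) = a * d * c * (d * a) := by rw [hd.eq]
        _ = _ := by group
    simp only at heq
    rw [e2 h₁.2.2.1, e2 h₂.2.2.1] at heq
    have e3 := mul_left_cancel (mul_right_cancel heq)
    refine hcd d₁ h₁ (h.ctx.cd h₁.1 h₂.1 hc hne h12 ?_).1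
    show c * (d₁ * d₂) = d₁ * d₂ * c
    have s1 := h.ctx.sq d₁ h₁.1
    have s2 := h.ctx.sq d₂ h₂.1
    calc c * (d₁ * d₂) = d₁ * (d₁ * c * d₁) * d₂ := by
          rw [show d₁ * (d₁ * c * d₁) * d₂ = d₁ * d₁ * c * d₁ * d₂ by group, s1]; group
      _ = d₁ * (d₂ * c * d₂) * d₂ := by rw [e3]
      _ = d₁ * d₂ * c * (d₂ * d₂) := by group
      _ = d₁ * d₂ * c := by rw [s2, mul_one]
  have hWW : {d | d ∈ D ∧ Tw D c d}.ncard ≤ {d | d ∈ D ∧ Tw D a d}.ncard := by
    obtain ⟨t, ht⟩ := h.single c hc a ha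
    refine Set.ncard_le_ncard_of_injOn (fun d => t * d * t⁻¹) (fun d hd => ?_)
      (fun z _ w _ e' => by simpa using e') (Set.toFinite _)
    exact ⟨h.ctx.conj t d hd.1, by rw [← ht, h.ctx.tw_conj_iff]; exact hd.2⟩
  have h1 := Set.ncard_le_ncard hWS (Set.toFinite _)
  rw [Set.ncard_insert_of_notMem (fun hh => hagt hh.2) (Set.toFinite _)] at h1
  omega

/-- Two non-twins at a vertex outside its class do not commute. -/
theorem no_line {e a g : G} (hea : Edge D e a) (heg : Edge D e g) (hag : Commute a g) :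
    Tw D a g := by
  by_contra htw
  have hEag : Edge D a g := ⟨hea.2.1, heg.2.1, hag, htw⟩
  obtain ⟨he, ha, eac, -⟩ := id hea
  obtain ⟨-, hg, egc, -⟩ := id heg
  obtain ⟨c, hc, hec, hac⟩ := h.exists_not_comm he ha hea.2.2.2
  have hcg : ¬ Commute c g := fun e' => hac
    (h.line he hc hg ha hec eac heg e' hag.symm).symm
  have hca : ¬ Commute c a := fun e' => hac e'.symm
  set u := a * g with hudef
  have hu2 : u * u = 1 := mul_sq_one (h.ctx.sq a ha) (h.ctx.sq g hg) hag
  set c' := u * c * u with hc'def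
  have hc' : c' ∈ D := h.ctx.conj' u hu2 hc
  have hcc' : Commute c c' := h.key ha hg hc hEag.ne hag (h.edge_prod hEag) hca hcg
  have hnt : ¬ Tw D c c' := h.moved hea heg hEag hc hec hca hcg
  have hEcc : Edge D c c' := ⟨hc, hc', hcc', hnt⟩
  have heu : Commute e u := eac.mul_right egc
  have hau : Commute a u := (Commute.refl a).mul_right hag
  have hec' : Commute e c' := by
    have := (commute_conj_invol_iff hu2).2 hec
    rwa [conj_fix hu2 heu.symm] at this
  have hac' : ¬ Commute a c' := fun e' => hac (by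
    have := (commute_conj_invol_iff hu2).2 e'
    rwa [conj_fix hu2 hau.symm, hc'def, conj_conj_invol hu2] at this)
  have hEec : Edge D e c := ⟨he, hc, hec, fun t => hca ((t a ha).1 eac)⟩
  have hEec' : Edge D e c' := ⟨he, hc', hec', fun t => hac' ((t a ha).1 eac).symm⟩
  set w := c * c' with hwdef
  have hw2 : w * w = 1 := mul_sq_one (h.ctx.sq c hc) (h.ctx.sq c' hc') hcc'
  have hwu : Commute w u := by
    refine (commute_of_conj_fix hu2 ?_).symm
    rw [hwdef, show u * (c * c') * u = u * c * (u * u) * c' * u by rw [hu2]; group,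
      show u * c * (u * u) * c' * u = u * c * u * (u * c' * u) by group, ← hc'def, hc'def,
      conj_conj_invol hu2]
    exact hcc'.symm.eq
  have hnta : ¬ Tw D a (w * a * w) := h.moved hEec hEec' hEcc ha eac hac hac'
  set a'' := w * a * w with ha''def
  have ha'' : a'' ∈ D := h.ctx.conj' w hw2 ha
  have hga'' : Tw D g a'' := by
    rcases h.delta hEag hwu with ⟨t, -⟩ | ⟨-, t⟩
    · rw [conj_invol hw2] at t; exact absurd t hnta
    · rw [conj_invol hw2] at t; exact t
  set H := Subgroup.centralizer ({e} : Set G) with hH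
  let N : Subgroup ↥H :=
    { carrier := {n | ∀ d ∈ D, Commute e d → Tw D d ((n : G) * d * (n : G)⁻¹)}
      one_mem' := fun d _ _ => by simpa using Tw.refl d
      mul_mem' := fun {m n} hm hn d hd hed => by
        have hnc : Commute (n : G) e := Subgroup.mem_centralizer_singleton_iff.1 n.2
        have h1 : Commute e ((n : G) * d * (n : G)⁻¹) :=
          (hnc.symm.mul_right hed).mul_right hnc.symm.inv_right
        have h2 := hm _ (h.ctx.conj (n : G) d hd) h1
        have := (hn d hd hed).trans h2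
        simpa [mul_assoc] using this
      inv_mem' := fun {n} hn d hd hed => by
        have hnc : Commute (n : G) e := Subgroup.mem_centralizer_singleton_iff.1 n.2
        have h1 : Commute e ((n : G)⁻¹ * d * (n : G)⁻¹⁻¹) :=
          (hnc.symm.inv_right.mul_right hed).mul_right hnc.symm.inv_right.inv_right
        have h2 := hn _ (h.ctx.conj (n : G)⁻¹ d hd) h1
        rw [show (n : G) * ((n : G)⁻¹ * d * (n : G)⁻¹⁻¹) * (n : G)⁻¹ = d by group] at h2
        simpa using h2.symm }
  haveI hN : N.Normal := ⟨fun n hn k d hd hed => by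
    have hkc : Commute (k : G) e := Subgroup.mem_centralizer_singleton_iff.1 k.2
    have h1 : Commute e ((k : G)⁻¹ * d * (k : G)⁻¹⁻¹) :=
      (hkc.symm.inv_right.mul_right hed).mul_right hkc.symm.inv_right.inv_right
    have h2 := h.ctx.tw_conj (k : G) (hn _ (h.ctx.conj (k : G)⁻¹ d hd) h1)
    rw [show (k : G) * ((k : G)⁻¹ * d * (k : G)⁻¹⁻¹) * (k : G)⁻¹ = d by group] at h2
    convert h2 using 1
    push_cast
    group⟩
  have mem : ∀ z : G, Commute z e → z ∈ H := fun z hz =>
    Subgroup.mem_centralizer_singleton_iff.2 hz.eq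
  set π := QuotientGroup.mk' N with hπ
  set A : ↥H := ⟨a, mem a eac.symm⟩
  set C : ↥H := ⟨c, mem c hec.symm⟩
  set U : ↥H := ⟨u, mem u heu.symm⟩
  set W : ↥H := ⟨w, mem w (hec.mul_right hec').symm⟩
  have hUN : U ∉ N := fun hh => hnt (by
    have := hh c hc hec
    rwa [show ((U : ↥H) : G) = u from rfl, conj_invol hu2] at this)
  apply hUN
  rw [← QuotientGroup.eq_one_iff]
  show π U = 1
  have lift1 : ∀ {z : ↥H}, (z : G) = 1 → π z = 1 := fun {z} hz => by
    rw [show z = 1 from Subtype.ext hz, map_one]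
  have hdel : π ⟨a'' * a * u, H.mul_mem (H.mul_mem
      (mem a'' (((hec.mul_right hec').symm.mul_left eac.symm).mul_left (hec.mul_right hec').symm))
      (mem a eac.symm)) (mem u heu.symm)⟩ = 1 := by
    refine (QuotientGroup.eq_one_iff _).2 fun d hd hed => ?_
    show Tw D d (a'' * a * u * d * (a'' * a * u)⁻¹)
    have e5 : a'' * a * u = a'' * g := by
      rw [hudef, ← mul_assoc, mul_assoc a'' a a, h.ctx.sq a ha, mul_one]
    rw [e5]
    by_cases hgg : a'' = g
    · rw [hgg, h.ctx.sq g hg]; simpa using Tw.refl d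
    · have hcom : Commute g a'' := hga''.comm ha''
      rw [← hcom.eq, conj_invol (mul_sq_one (h.ctx.sq g hg) (h.ctx.sq a'' ha'') hcom)]
      exact h.twin_dist ha'' (fun e' => hgg e'.symm) hga'' heg hd hed
  have hp3 : ¬ 3 ∣ p := fun hd => by
    have := (Nat.prime_dvd_prime_iff_eq Nat.prime_three h.ctx.prime).1 hd
    have := h.ctx.five
    omega
  have ha2 : π A * π A = 1 := by
    rw [← map_mul]; exact lift1 (h.ctx.sq a ha)
  have hu2' : π U * π U = 1 := by rw [← map_mul]; exact lift1 hu2
  refine klein hp3 (a := π A) (c := π C) (w := π W) ha2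
    (by rw [← map_mul]; exact lift1 (h.ctx.sq c hc)) hu2'
    (by rw [← map_mul]; exact lift1 hw2)
    ((show Commute U W from Subtype.ext hwu.symm.eq).map π)
    ((show Commute A U from Subtype.ext hau.eq).map π)
    ((show Commute C W from Subtype.ext ((Commute.refl c).mul_right hcc').eq).map π) ?_ ?_ ?_
  · have e6 : A * W * A = W * ⟨a'' * a * u, H.mul_mem (H.mul_mem
        (mem a'' (((hec.mul_right hec').symm.mul_left eac.symm).mul_left
          (hec.mul_right hec').symm))
        (mem a eac.symm)) (mem u heu.symm)⟩ * U := by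
      refine Subtype.ext ?_
      show a * w * a = w * (a'' * a * u) * u
      rw [ha''def, show w * (w * a * w * a * u) * u = (w * w) * a * w * a * (u * u) by group, hw2,
        hu2, one_mul, mul_one]
    rw [← map_mul, ← map_mul, e6, map_mul, map_mul, hdel, mul_one]
  · rw [← map_mul, ← map_mul, ← map_mul]
    congr 1
    refine Subtype.ext ?_
    show c * u * c = u * w
    rw [← hwu.eq, hwdef, hc'def, show c * (u * c * u) * u = c * u * c * (u * u) by group, hu2,
      mul_one]
  · rw [← map_mul, ← map_pow]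
    exact lift1 (by show (a * c) ^ p = 1; exact h.ctx.pow_eq ha hc hac)

/-- There are no distinct twins once there is an edge. -/
theorem no_twins {a₀ b₀ : G} (he₀ : Edge D a₀ b₀) {a a' : G} (ha : a ∈ D) (ha' : a' ∈ D)
    (ht : Tw D a a') : a = a' := by
  by_contra hne
  set u := a * a' with hudef
  have haa := ht.comm ha'
  have hu2 : u * u = 1 := mul_sq_one (h.ctx.sq a ha) (h.ctx.sq a' ha') haa
  obtain ⟨b, heb⟩ := h.exists_edge_at he₀ ha
  have hfixed : ∀ c ∈ D, Commute c a → u * c * u = c := fun c hc hca =>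
    conj_fix hu2 (hca.mul_right ((ht c hc).1 hca.symm).symm).symm
  have hall : ∀ c, h.Conn a c → c ∈ D → Tw D c (u * c * u) := by
    intro c hconn
    induction hconn with
    | refl => intro hc; rw [hfixed a hc (Commute.refl a)]; exact Tw.refl a
    | @tail g c _ hgc ih =>
      intro hc
      obtain ⟨hg, -, hgc⟩ := hgc
      by_cases hca : Commute c a
      · rw [hfixed c hc hca]; exact Tw.refl c
      have ihg := ih hg
      by_cases htg : Tw D g c
      · exact htg.symm.trans (ihg.trans (h.ctx.tw_conj' hu2 htg))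
      have hca' : ¬ Commute c a' := fun e' => hca ((ht c hc).2 e'.symm).symm
      have hcc' := h.key ha ha' hc hne haa (h.twin_prod he₀ ha ha' hne ht) hca hca'
      have hc' := h.ctx.conj' u hu2 hc
      have hgc' : Commute g (u * c * u) :=
        (ihg _ hc').2 ((commute_conj_invol_iff hu2).2 hgc)
      refine h.no_line (e := g) ⟨hg, hc, hgc, htg⟩ ⟨hg, hc', hgc', fun t => htg ?_⟩ hcc'
      have t' := h.ctx.tw_conj' hu2 t
      rw [conj_conj_invol hu2] at t'
      exact ihg.trans t'
  refine h.kernel_absurd (Tw D) Tw.refl (fun x y => Tw.symm) (fun x y z => Tw.trans)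
    (fun g x y t => h.ctx.tw_conj g t) ha ha' hne ht ?_ fun x hx => ?_
  · intro htop
    have hle : Subgroup.closure {x | x ∈ D ∧ Tw D a x} ≤ Subgroup.centralizer ({a} : Set G) :=
      (Subgroup.closure_le _).2 fun x hx =>
        Subgroup.mem_centralizer_singleton_iff.2 ((hx.2.comm hx.1).symm).eq
    rw [htop] at hle
    apply h.ctx.ne_one a ha
    rw [← Subgroup.mem_bot, ← h.center_eq_bot, Subgroup.mem_center_iff]
    exact fun g => Subgroup.mem_centralizer_singleton_iff.1 (hle (Subgroup.mem_top g))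
  · rw [conj_invol hu2]; exact hall x (h.conn heb x hx) hx

/-- There are no edges. -/
theorem no_edge {a₀ b₀ : G} (he₀ : Edge D a₀ b₀) : False := by
  by_cases hpure : ∃ a b c, Edge D a b ∧ c ∈ D ∧ ¬ Commute c a ∧ ¬ Commute c b
  · obtain ⟨a, b, c, hab', hc, hca, hcb⟩ := hpure
    obtain ⟨ha, hb, hab, -⟩ := id hab'
    set u := a * b with hudef
    have hu2 : u * u = 1 := mul_sq_one (h.ctx.sq a ha) (h.ctx.sq b hb) hab
    have hau : Commute a u := (Commute.refl a).mul_right hab
    set c' := u * c * u with hc'def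
    have hc' : c' ∈ D := h.ctx.conj' u hu2 hc
    have hcc' : Commute c c' := h.key ha hb hc hab'.ne hab (h.edge_prod hab') hca hcb
    have hne' : c ≠ c' := fun e => h.key_ne ha hb hc hab'.ne hab hca e.symm
    set w := c * c' with hwdef
    have hw2 : w * w = 1 := mul_sq_one (h.ctx.sq c hc) (h.ctx.sq c' hc') hcc'
    have hwu : Commute w u := by
      refine (commute_of_conj_fix hu2 ?_).symm
      rw [hwdef, show u * (c * c') * u = u * c * (u * u) * c' * u by rw [hu2]; group,
        show u * c * (u * u) * c' * u = u * c * u * (u * c' * u) by group, ← hc'def, hc'def,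
        conj_conj_invol hu2]
      exact hcc'.symm.eq
    have hwab : w * a * w = b := by
      rcases h.delta hab' hwu with ⟨t, -⟩ | ⟨-, t⟩ <;> rw [conj_invol hw2] at t
      · exfalso
        have e := h.no_twins he₀ ha (h.ctx.conj' w hw2 ha) t
        exact hca (h.ctx.cd hc hc' ha hne' hcc' (commute_of_conj_fix hw2 e.symm).symm).1.symm
      · exact (h.no_twins he₀ hb (h.ctx.conj' w hw2 ha) t).symm
    have hp3 : ¬ 3 ∣ p := fun hd => by
      have := (Nat.prime_dvd_prime_iff_eq Nat.prime_three h.ctx.prime).1 hd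
      have := h.ctx.five
      omega
    have hu1 := klein hp3 (h.ctx.sq a ha) (h.ctx.sq c hc) hu2 hw2 hwu.symm hau
      ((Commute.refl c).mul_right hcc') (by
        rw [show u = b * a from hab.eq]
        conv_rhs => rw [← hwab]
        rw [show w * (w * a * w * a) = (w * w) * a * w * a by group, hw2, one_mul]) (by
        rw [← hwu.eq, hwdef, hc'def, show c * (u * c * u) * u = c * u * c * (u * u) by group, hu2,
          mul_one]) (h.ctx.pow_eq ha hc fun e => hca e.symm)
    rw [hudef, mul_eq_one_iff_eq_inv, h.ctx.inv hb] at hu1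
    exact hab'.ne hu1
  · push Not at hpure
    obtain ⟨ha, hb, hab, htw⟩ := id he₀
    have hall := h.split (M := {d | d ∈ D ∧ (¬ Commute a₀ d ∨ Tw D a₀ d)}) (fun d hd => hd.1)
      (a := a₀) ⟨ha, Or.inr (Tw.refl a₀)⟩ (by
        intro d hd hdM r hr
        simp only [Set.mem_setOf_eq, not_and, not_or, not_not] at hdM
        obtain ⟨hxd, hnt⟩ := hdM hd
        rcases hr.2 with nr | t
        · exact (hpure a₀ d r ⟨ha, hd, hxd, hnt⟩ hr.1 fun e => nr e.symm).symm
        · exact ((t d hd).1 hxd).symm)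
    rcases (hall b₀ hb).2 with e | e
    · exact e hab
    · exact htw e

end Min

end Cfsg.Agent.TwoPInvol
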