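import Cfsg.Agent.Lib.TwoPInvol.Blocks

/-!
# Groups generated by involutions with all products of order 1, 2 or `p` (owner: helper81)

`solvable_of_ctx`: if `p ≥ 5` is prime and the finite group `G` is generated by a conjugation-invariant
set of involutions in which non-commuting members have product of order `p`, then `G` is solvable.
-/

universe u

set_option autoImplicit false
set_option linter.unusedSectionVars false
set_option linter.style.haveILetI false

namespace Cfsg.Agent.TwoPInvol

theorem solvable_aux : ∀ (n : ℕ) (G : Type u) [Group G] [Finite G] (D : Set G) (p : ℕ),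
    Nat.card G = n → Ctx p D → Subgroup.closure D = ⊤ → Group.IsSolvable G := by
  intro n
  induction n using Nat.strong_induction_on with
  | _ n ih =>
  intro G _ _ D p hn h hgen
  by_cases hrad : ∀ N : Subgroup G, N.Normal → Group.IsSolvable ↥N → N = ⊥
  · have hcenter : Subgroup.center G = ⊥ := hrad _ inferInstance
      (Group.isSolvable_of_comm fun a b => Subtype.ext (Subgroup.mem_center_iff.1 b.2 a))
    have hsub : ∀ s : Set G, s ⊆ D → Subgroup.closure s ≠ ⊤ →
        Group.IsSolvable ↥(Subgroup.closure s) := by
      intro s hs hne
      refine ih _ ?_ ↥(Subgroup.closure s) _ p rfl (h.restrict _) ?_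
      · rw [← hn]
        exact lt_of_le_of_ne (Subgroup.card_le_card_group _)
          fun e => hne (Subgroup.eq_top_of_card_eq _ e)
      · refine eq_top_iff.2 ?_
        rw [← Subgroup.closure_closure_coe_preimage (k := s)]
        exact Subgroup.closure_mono fun x hx => hs hx
    have single : ∀ a ∈ D, ∀ b ∈ D, ∃ g : G, g * a * g⁻¹ = b := by
      intro a ha b hb
      by_contra! hab
      set D1 : Set G := {d | d ∈ D ∧ ∃ g : G, g * a * g⁻¹ = d} with hD1
      have hcomm : ∀ d ∈ D1, Commute d b := by
        rintro d ⟨hd, g, hg⟩
        by_contra hdb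
        obtain ⟨k, -, hk⟩ := h.exists_conj hd hb hdb
        refine hab (k * g) ?_
        rw [← hk, ← hg]
        group
      have hnorm : (Subgroup.closure D1).Normal := by
        refine ⟨fun x hx g => ?_⟩
        have hle : Subgroup.closure D1 ≤ (Subgroup.closure D1).comap (MulAut.conj g).toMonoidHom := by
          rw [Subgroup.closure_le]
          rintro d ⟨hd, k, hk⟩
          refine Subgroup.subset_closure ⟨h.conj g d hd, g * k, ?_⟩
          show g * k * a * (g * k)⁻¹ = g * d * g⁻¹
          rw [← hk]
          group
        exact hle hx
      have hne : Subgroup.closure D1 ≠ ⊤ := by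
        intro htop
        apply h.ne_one b hb
        rw [← Subgroup.mem_bot, ← hcenter, Subgroup.mem_center_iff]
        intro g
        have hle : Subgroup.closure D1 ≤ Subgroup.centralizer ({b} : Set G) :=
          (Subgroup.closure_le _).2 fun z hz =>
            Subgroup.mem_centralizer_singleton_iff.2 (hcomm z hz).eq
        rw [htop] at hle
        exact Subgroup.mem_centralizer_singleton_iff.1 (hle (Subgroup.mem_top g))
      have hbot := hrad _ hnorm (hsub D1 (fun d hd => hd.1) hne)
      have haD : a ∈ Subgroup.closure D1 := Subgroup.subset_closure ⟨ha, 1, by simp⟩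
      rw [hbot, Subgroup.mem_bot] at haD
      exact h.ne_one a ha haD
    rcases D.eq_empty_or_nonempty with hD | hD
    · haveI : Subsingleton G := by
        rw [hD, Subgroup.closure_empty] at hgen
        exact Subgroup.subsingleton_iff.1 (subsingleton_of_bot_eq_top hgen)
      exact Group.isSolvable_of_comm fun a b => Subsingleton.elim _ _
    · exact ((Min.toBlockCase ⟨h, hgen, hrad, hsub, single⟩ hD).false).elim
  · push Not at hrad
    obtain ⟨N, hN, hNs, hNne⟩ := hrad
    haveI := hN
    haveI := hNs
    haveI : Group.IsSolvable (G ⧸ N) := by
      refine ih _ ?_ (G ⧸ N) _ p rfl (h.quotient N) ?_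
      · rw [← hn, Subgroup.card_eq_card_quotient_mul_card_subgroup N]
        haveI : Nontrivial ↥N := N.nontrivial_iff_ne_bot.2 hNne
        exact lt_mul_of_one_lt_right Nat.card_pos Finite.one_lt_card
      · refine eq_top_iff.2 ?_
        rw [← Subgroup.map_top_of_surjective (QuotientGroup.mk' N) (QuotientGroup.mk'_surjective N),
          ← hgen, MonoidHom.map_closure, Subgroup.closure_le]
        rintro _ ⟨d, hd, rfl⟩
        by_cases hdN : d ∈ N
        · show (QuotientGroup.mk d : G ⧸ N) ∈ Subgroup.closure _
          rw [(QuotientGroup.eq_one_iff d).2 hdN]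
          exact Subgroup.one_mem _
        · exact Subgroup.subset_closure (h.image_mem hd hdN)
    exact Group.isSolvable_of_ker_le_range N.subtype (QuotientGroup.mk' N)
      (by rw [QuotientGroup.ker_mk', Subgroup.range_subtype])

/-- A finite group generated by an invariant set of involutions whose non-commuting members have
products of one prime order `p ≥ 5` is solvable. -/
theorem solvable_of_ctx {G : Type u} [Group G] [Finite G] {D : Set G} {p : ℕ} (h : Ctx p D)
    (hgen : Subgroup.closure D = ⊤) : Group.IsSolvable G :=
  solvable_aux _ G D p rfl h hgen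

end Cfsg.Agent.TwoPInvol
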