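import Cfsg.Agent.Lib.TwoPInvol.Solv

/-!
# Pairwise non-commuting sets (owner: helper81)

* `Ctx.no_comm` : in a solvable group an invariant such set without commuting pairs generates (from a member `a`)
  an odd subgroup `⟨x a⟩`, and its size is a power of `p`.
-/

set_option autoImplicit false
set_option linter.unusedSectionVars false
set_option linter.style.haveILetI false

namespace Cfsg.Agent.TwoPInvol

universe u

theorem no_comm_aux : ∀ (n : ℕ) (H : Type u) [Group H] [Finite H] (X : Set H) (p : ℕ),
    Nat.card H = n → Group.IsSolvable H → Ctx p X → (∀ x ∈ X, ∀ y ∈ X, Commute x y → x = y) →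
      ∀ a ∈ X, Odd (Nat.card ↥(Subgroup.closure {z : H | ∃ x ∈ X, x * a = z})) ∧
        ∃ j : ℕ, X.ncard = p ^ j := by
  classical
  intro n
  induction n using Nat.strong_induction_on with
  | _ n IH =>
  intro H _ _ X p hn hs h hnc a ha
  haveI := hs
  by_cases hone : ∀ x ∈ X, x = a
  · have hX : X = {a} := Set.eq_singleton_iff_unique_mem.2 ⟨ha, hone⟩
    refine ⟨?_, 0, by rw [hX, Set.ncard_singleton, pow_zero]⟩
    have hbot : Subgroup.closure {z : H | ∃ x ∈ X, x * a = z} = ⊥ := by
      rw [Subgroup.closure_eq_bot_iff]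
      rintro z ⟨x, hx, rfl⟩
      rw [hone x hx, h.sq a ha]
      exact Set.mem_singleton _
    rw [hbot, Subgroup.card_bot]
    exact odd_one
  push Not at hone
  obtain ⟨b, hb, hba⟩ := hone
  haveI : Nontrivial H := ⟨a, b, hba.symm⟩
  obtain ⟨r, V, hr, hVn, hV, hVc, hVe⟩ := exists_normal_exponent_prime hs
  haveI := hVn
  haveI := Fact.mk hr
  have hXV : ∀ x ∈ X, x ∉ V := by
    intro x hx hxV
    have hall : ∀ y ∈ X, y = x := fun y hy => by
      have hy2 : y * x * y ∈ V := by
        have := hVn.conj_mem x hxV y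
        rwa [h.inv hy] at this
      have h1 := hnc _ (h.conjD hy hx) x hx (hVc _ hy2 _ hxV)
      refine hnc y hy x hx ?_
      calc y * x = y * x * (y * y) := by rw [h.sq y hy, mul_one]
        _ = (y * x * y) * y := by group
        _ = x * y := by rw [h1]
    exact hba ((hall b hb).trans (hall a ha).symm)
  set π := QuotientGroup.mk' V with hπ
  have hlt : Nat.card (H ⧸ V) < n := by
    rw [← hn, Subgroup.card_eq_card_quotient_mul_card_subgroup V]
    exact lt_mul_of_one_lt_right Nat.card_pos ((Subgroup.one_lt_card_iff_ne_bot V).2 hV)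
  have himg : {q : H ⧸ V | q ≠ 1 ∧ ∃ e ∈ X, QuotientGroup.mk e = q} = π '' X := by
    ext q
    constructor
    · rintro ⟨_, e, he, rfl⟩; exact ⟨e, he, rfl⟩
    · rintro ⟨e, he, rfl⟩; exact h.image_mem he (hXV e he)
  have hnc' : ∀ x ∈ π '' X, ∀ y ∈ π '' X, Commute x y → x = y := by
    rintro _ ⟨x, hx, rfl⟩ _ ⟨y, hy, rfl⟩ hc
    by_cases hxy : Commute x y
    · rw [hnc x hx y hy hxy]
    by_contra hne
    exact h.mk_not_commute hx hy hxy (fun hm => hne (mk_eq_of_mul_mem (h.sq x hx) hm)) hc
  obtain ⟨hodd, j, hj⟩ := IH _ hlt (H ⧸ V) (π '' X) p rfl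
    (Group.isSolvable_of_surjective (QuotientGroup.mk'_surjective V)) (himg ▸ h.quotient V) hnc'
    (π a) ⟨a, ha, rfl⟩
  set N := Subgroup.closure {z : H | ∃ x ∈ X, x * a = z} with hN
  have hNmap : N.map π = Subgroup.closure {z : H ⧸ V | ∃ x ∈ π '' X, x * π a = z} := by
    rw [hN, MonoidHom.map_closure]
    congr 1
    ext z
    constructor
    · rintro ⟨_, ⟨x, hx, rfl⟩, rfl⟩; exact ⟨π x, ⟨x, hx, rfl⟩, (map_mul π x a).symm⟩
    · rintro ⟨_, ⟨x, hx, rfl⟩, rfl⟩; exact ⟨x * a, ⟨x, hx, rfl⟩, map_mul π x a⟩
  rw [← hNmap] at hodd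
  constructor
  · -- `N` has odd order
    by_contra hev
    rw [Nat.not_odd_iff_even] at hev
    haveI : Fact (Nat.Prime 2) := ⟨Nat.prime_two⟩
    obtain ⟨t, ht⟩ := exists_prime_orderOf_dvd_card' (G := ↥N) 2 hev.two_dvd
    have ht2 : (t : H) ^ 2 = 1 := by
      rw [← SubgroupClass.coe_pow, ← ht, pow_orderOf_eq_one, OneMemClass.coe_one]
    have ht1 : (t : H) ≠ 1 := fun e => by
      rw [show t = 1 from Subtype.ext e, orderOf_one] at ht; exact absurd ht (by norm_num)
    have htV : (t : H) ∈ V := by
      rw [← QuotientGroup.eq_one_iff]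
      have hmem : π (t : H) ∈ N.map π := ⟨t, t.2, rfl⟩
      have hcard : π (t : H) ^ Nat.card ↥(N.map π) = 1 := by
        simpa using congrArg Subtype.val
          (pow_card_eq_one' (x := (⟨π (t : H), hmem⟩ : ↥(N.map π))))
      refine eq_one_of_pow_prime_of_pow_ne Nat.prime_two
        (fun hd => Nat.not_even_iff_odd.2 hodd (even_iff_two_dvd.2 hd)) ?_ hcard
      rw [← QuotientGroup.mk_pow, ht2, QuotientGroup.mk_one]
    apply ht1
    by_cases hr2 : r = 2
    · subst hr2
      have hcen : ∀ x ∈ X, ∀ v ∈ V, Commute x v := by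
        intro x hx v hv
        have hm : x * (v * x * v⁻¹) ∈ V := by
          have h1 : x * v * x ∈ V := by
            have := hVn.conj_mem v hv x
            rwa [h.inv hx] at this
          have := V.mul_mem h1 (V.inv_mem hv)
          convert this using 1
          group
        have hc : Commute x (v * x * v⁻¹) := by
          by_contra hc
          exact h.mul_ne_one hx (h.conj v x hx) hc
            (eq_one_of_pow_prime_of_pow_ne h.prime (fun hd => by
              have := Nat.le_of_dvd two_pos hd; have := h.five; omega)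
              (h.pow_eq hx (h.conj v x hx) hc) (hVe _ hm))
        have h1 := hnc x hx _ (h.conj v x hx) hc
        show x * v = v * x
        conv_lhs => rw [h1]
        rw [inv_mul_cancel_right]
      have hNc : ∀ g ∈ N, ∀ v ∈ V, Commute g v := by
        intro g hg v hv
        have : N ≤ Subgroup.centralizer ({v} : Set H) := by
          rw [hN, Subgroup.closure_le]
          rintro _ ⟨x, hx, rfl⟩
          exact Subgroup.mem_centralizer_singleton_iff.2
            ((hcen x hx v hv).mul_left (hcen a ha v hv)).eq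
        exact Subgroup.mem_centralizer_singleton_iff.1 (this hg)
      have htc : t ∈ Subgroup.center ↥N :=
        Subgroup.mem_center_iff.2 fun g => Subtype.ext (hNc g g.2 t htV).eq
      let f : ↥N →* H ⧸ V := π.comp N.subtype
      have hker : f.ker ≤ Subgroup.center ↥N := fun z hz =>
        Subgroup.mem_center_iff.2 fun g => Subtype.ext
          (hNc g g.2 z ((QuotientGroup.eq_one_iff _).1 (MonoidHom.mem_ker.1 hz))).eq
      have hidx : Odd (Subgroup.center ↥N).index := by
        refine hodd.of_dvd_nat ((Subgroup.index_dvd_of_le hker).trans ?_)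
        rw [Subgroup.index_ker]
        have : f.range = N.map π := by
          simp only [f, MonoidHom.range_comp, Subgroup.range_subtype]
        rw [this]
      let τ := MonoidHom.transferCenterPow ↥N
      let S : Subgroup ↥N :=
        { carrier := {g | τ g ^ p = 1}
          one_mem' := by simp
          mul_mem' := fun {g g'} hg hg' => by
            show τ (g * g') ^ p = 1
            rw [map_mul, Commute.mul_pow
              (Subtype.ext ((Subgroup.mem_center_iff.1 (τ g').2) (τ g))) , hg, hg', one_mul]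
          inv_mem' := fun {g} hg => by
            show τ g⁻¹ ^ p = 1
            rw [map_inv, inv_pow, hg, inv_one] }
      have hS : t ∈ S := by
        have hle : N ≤ S.map N.subtype := by
          conv_lhs => rw [hN]
          rw [Subgroup.closure_le]
          rintro _ ⟨x, hx, rfl⟩
          refine ⟨⟨x * a, Subgroup.subset_closure ⟨x, hx, rfl⟩⟩, ?_, rfl⟩
          show τ _ ^ p = 1
          have hp' : (x * a) ^ p = 1 := by
            by_cases hc : Commute x a
            · rw [hnc x hx a ha hc, h.sq a ha, one_pow]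
            · exact h.pow_eq hx ha hc
          rw [← map_pow, show (⟨x * a, Subgroup.subset_closure ⟨x, hx, rfl⟩⟩ : ↥N) ^ p = 1 from
            Subtype.ext (by simpa using hp'), map_one]
        obtain ⟨s, hs', hst⟩ := hle t.2
        rwa [show t = s from Subtype.ext hst.symm]
      have hτ : ((τ t : ↥(Subgroup.center ↥N)) : ↥N) = t := by
        rw [MonoidHom.transferCenterPow_apply]
        obtain ⟨m, hm⟩ := hidx
        rw [hm, pow_succ, pow_mul, show t ^ 2 = 1 from Subtype.ext (by simpa using ht2), one_pow,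
          one_mul]
      have htp : (t : H) ^ p = 1 := by
        have hS' : τ t ^ p = 1 := hS
        have h2 := congrArg (fun z : ↥(Subgroup.center ↥N) => (z : ↥N)) hS'
        simp only [SubmonoidClass.coe_pow, OneMemClass.coe_one, hτ] at h2
        simpa using congrArg Subtype.val h2
      exact eq_one_of_pow_prime_of_pow_ne Nat.prime_two
        (fun hd => Nat.not_even_iff_odd.2 h.odd (even_iff_two_dvd.2 hd)) ht2 htp
    · exact eq_one_of_pow_prime_of_pow_ne Nat.prime_two
        (fun hd => hr2 ((Nat.prime_dvd_prime_iff_eq Nat.prime_two hr).1 hd).symm) ht2 (hVe _ htV)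
  · -- the size
    set F : H → Set H := fun x => {y | y ∈ X ∧ π y = π x} with hF
    have hle : ∀ x y : H, ∀ g : H, g * x * g⁻¹ = y → (F x).ncard ≤ (F y).ncard := by
      intro x y g hg
      refine Set.ncard_le_ncard_of_injOn (fun z => g * z * g⁻¹) (fun z hz => ?_)
        (fun z _ w _ e => by simpa using e) (Set.toFinite _)
      refine ⟨h.conj g z hz.1, ?_⟩
      rw [map_mul, map_mul, hz.2, ← map_mul, ← map_mul, hg]
    have hconst : ∀ x ∈ X, (F x).ncard = (F a).ncard := by
      intro x hx
      by_cases hc : Commute a x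
      · rw [hnc a ha x hx hc]
      obtain ⟨g, _, hg⟩ := h.exists_conj ha hx hc
      exact le_antisymm (hle x a g⁻¹ (by rw [← hg]; group)) (hle a x g hg)
    have hfib : ∃ i, (F a).ncard = p ^ i := by
      by_cases hrp : r = p
      · let ψ : ↥V →* ↥V :=
          { toFun := fun v => ⟨(v : H) * (a * (v : H)⁻¹ * a), V.mul_mem v.2 (by
              have := hVn.conj_mem _ (V.inv_mem v.2) a
              rwa [h.inv ha] at this)⟩
            map_one' := Subtype.ext (by simp [h.sq a ha])
            map_mul' := fun v w => Subtype.ext (by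
              have hw : a * (w : H)⁻¹ * a ∈ V := by
                have := hVn.conj_mem _ (V.inv_mem w.2) a
                rwa [h.inv ha] at this
              have hv : a * (v : H)⁻¹ * a ∈ V := by
                have := hVn.conj_mem _ (V.inv_mem v.2) a
                rwa [h.inv ha] at this
              simp only [Subgroup.coe_mul]
              calc (v : H) * w * (a * ((v : H) * w)⁻¹ * a)
                  = (v : H) * w * (a * (w : H)⁻¹ * (a * a) * (v : H)⁻¹ * a) := by
                    rw [h.sq a ha]; group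
                _ = (v : H) * (w * (a * (w : H)⁻¹ * a)) * (a * (v : H)⁻¹ * a) := by group
                _ = (v : H) * ((w * (a * (w : H)⁻¹ * a)) * (a * (v : H)⁻¹ * a)) := by group
                _ = (v : H) * ((a * (v : H)⁻¹ * a) * (w * (a * (w : H)⁻¹ * a))) := by
                    rw [(hVc _ (V.mul_mem w.2 hw) _ hv).eq]
                _ = _ := by group) }
        have hFeq : F a = (fun v : H => v * a) '' (((ψ.range).map V.subtype : Subgroup H) : Set H) := by
          ext y
          constructor
          · rintro ⟨hy, hya⟩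
            have hv : y * a ∈ V := by
              rw [← QuotientGroup.eq_one_iff]
              show π (y * a) = 1
              rw [map_mul, hya, ← map_mul, h.sq a ha, map_one]
            obtain ⟨m, hm⟩ := h.odd
            have hai : a * (y * a) * a = (y * a)⁻¹ := by
              rw [mul_inv_rev, h.inv ha, h.inv hy, mul_assoc a, mul_assoc y, h.sq a ha, mul_one]
            refine ⟨y * a, ⟨ψ ⟨(y * a) ^ (m + 1), V.pow_mem hv _⟩, ⟨_, rfl⟩, ?_⟩,
              by simp [mul_assoc, h.sq a ha]⟩
            show (y * a) ^ (m + 1) * (a * ((y * a) ^ (m + 1))⁻¹ * a) = y * a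
            have e : a * ((y * a) ^ (m + 1))⁻¹ * a = (y * a) ^ (m + 1) := by
              have h1 : a * (y * a) ^ (m + 1) * a⁻¹ = ((y * a) ^ (m + 1))⁻¹ := by
                rw [← conj_pow, h.inv ha, hai, inv_pow]
              rw [h.inv ha] at h1
              rw [← h1, show a * (a * (y * a) ^ (m + 1) * a) * a
                = (a * a) * (y * a) ^ (m + 1) * (a * a) by group, h.sq a ha, one_mul, mul_one]
            rw [e, ← pow_add, show m + 1 + (m + 1) = r + 1 by omega, pow_succ, hVe _ hv, one_mul]
          · rintro ⟨_, ⟨_, ⟨v, rfl⟩, rfl⟩, rfl⟩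
            constructor
            · show (v : H) * (a * (v : H)⁻¹ * a) * a ∈ X
              have e : (v : H) * (a * (v : H)⁻¹ * a) * a = (v : H) * a * (v : H)⁻¹ := by
                simp [mul_assoc, h.sq a ha]
              rw [e]
              exact h.conj _ a ha
            · show π ((ψ v : H) * a) = π a
              rw [map_mul, show π (ψ v : H) = 1 from (QuotientGroup.eq_one_iff _).2 (ψ v).2,
                one_mul]
        rw [hFeq, Set.ncard_image_of_injective _ (mul_left_injective a), ← Nat.card_coe_set_eq]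
        have hVr : IsPGroup r ↥V := fun v => ⟨1, Subtype.ext (by simpa using hVe v v.2)⟩
        obtain ⟨k, hk⟩ := IsPGroup.iff_card.1 hVr
        rw [hrp] at hk
        obtain ⟨i, hi⟩ := (Nat.dvd_prime_pow h.prime).1
          (show Nat.card ↥((ψ.range).map V.subtype) ∣ p ^ k from
            hk ▸ Subgroup.card_dvd_of_le (Subgroup.map_subtype_le _))
        exact ⟨i, hi.2⟩
      · refine ⟨0, ?_⟩
        rw [pow_zero, Set.ncard_eq_one]
        refine ⟨a, Set.eq_singleton_iff_unique_mem.2 ⟨⟨ha, rfl⟩, ?_⟩⟩
        rintro y ⟨hy, hya⟩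
        by_contra hne
        have hc : ¬ Commute y a := fun hc => hne (hnc y hy a ha hc)
        have hm : y * a ∈ V := by
          rw [← QuotientGroup.eq_one_iff]
          show π (y * a) = 1
          rw [map_mul, hya, ← map_mul, h.sq a ha, map_one]
        exact h.mul_ne_one hy ha hc (eq_one_of_pow_prime_of_pow_ne hr
          (fun hd => hrp ((Nat.prime_dvd_prime_iff_eq hr h.prime).1 hd)) (hVe _ hm)
          (h.pow_eq hy ha hc))
    obtain ⟨i, hi⟩ := hfib
    refine ⟨j + i, ?_⟩
    haveI := Fintype.ofFinite H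
    rw [pow_add, ← hj, ← hi, Set.ncard_eq_toFinset_card' X, Set.ncard_eq_toFinset_card' (π '' X),
      Set.toFinset_image, Finset.card_eq_sum_card_image π X.toFinset,
      Finset.sum_const_nat (m := (F a).ncard)]
    intro q hq
    obtain ⟨x, hx, rfl⟩ := Finset.mem_image.1 hq
    rw [← hconst x (Set.mem_toFinset.1 hx), Set.ncard_eq_toFinset_card']
    congr 1
    ext y
    simp [hF]

theorem Ctx.no_comm {G : Type u} [Group G] [Finite G] {p : ℕ} {D : Set G} (h : Ctx p D)
    {X : Set G} {K : Subgroup G} (hK : Group.IsSolvable ↥K) (hXK : X ⊆ K) (hXD : X ⊆ D)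
    (hinv : ∀ g ∈ K, ∀ x ∈ X, g * x * g⁻¹ ∈ X)
    (hnc : ∀ x ∈ X, ∀ y ∈ X, Commute x y → x = y) {a : G} (ha : a ∈ X) :
    Odd (Nat.card ↥(Subgroup.closure {z : G | ∃ x ∈ X, x * a = z})) ∧
      ∃ j : ℕ, X.ncard = p ^ j := by
  have h' := h.restrict K
  set X' : Set ↥K := (K.subtype : ↥K → G) ⁻¹' X with hX'
  have hc : Ctx p X' :=
    { prime := h.prime
      five := h.five
      sq := fun d hd => h'.sq d (hXD hd)
      ne_one := fun d hd => h'.ne_one d (hXD hd)
      conj := fun g d hd => by
        show ((g * d * g⁻¹ : ↥K) : G) ∈ X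
        simpa using hinv g g.2 _ hd
      ord := fun x hx y hy => h'.ord x (hXD hx) y (hXD hy) }
  obtain ⟨h1, j, h2⟩ := no_comm_aux _ (↥K) X' p rfl hK hc
    (fun x hx y hy e => Subtype.ext (hnc _ hx _ hy (congrArg Subtype.val e.eq)))
    ⟨a, hXK ha⟩ ha
  constructor
  · have e : Subgroup.closure {z : G | ∃ x ∈ X, x * a = z} =
        (Subgroup.closure {z : ↥K | ∃ x ∈ X', x * ⟨a, hXK ha⟩ = z}).map K.subtype := by
      rw [MonoidHom.map_closure]
      congr 1
      ext z
      constructor
      · rintro ⟨x, hx, rfl⟩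
        exact ⟨⟨x, hXK hx⟩ * ⟨a, hXK ha⟩, ⟨⟨x, hXK hx⟩, hx, rfl⟩, rfl⟩
      · rintro ⟨_, ⟨x, hx, rfl⟩, rfl⟩
        exact ⟨x, hx, rfl⟩
    rw [e, Subgroup.card_map_of_injective K.subtype_injective]
    exact h1
  · refine ⟨j, ?_⟩
    rw [← h2, hX', ← Set.ncard_image_of_injective _ K.subtype_injective,
      Set.image_preimage_eq_inter_range, Set.inter_eq_left.2]
    intro x hx
    exact ⟨⟨x, hXK hx⟩, rfl⟩

end Cfsg.Agent.TwoPInvol
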