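import Cfsg.Agent.Lib.TwoPInvol.Basic

/-!
# The solvable case (owner: helper81)

* `ab_mem_two_normal` : in a solvable group, if `a ≠ b` commute and `c` commutes with neither, `a * b` lies in a
  normal `2`-subgroup;
* `exists_two_sub` : the same, relative to a solvable subgroup of an ambient group.
-/

set_option autoImplicit false
set_option linter.unusedSectionVars false
set_option linter.style.haveILetI false

namespace Cfsg.Agent.TwoPInvol

universe u

theorem exists_normal_exponent_prime {H : Type u} [Group H] [Finite H] [Nontrivial H]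
    (hs : Group.IsSolvable H) :
    ∃ (r : ℕ) (V : Subgroup H), r.Prime ∧ V.Normal ∧ V ≠ ⊥ ∧
      (∀ v ∈ V, ∀ w ∈ V, Commute v w) ∧ ∀ v ∈ V, v ^ r = 1 := by
  classical
  obtain ⟨n, hn⟩ := (Group.isSolvable_def H).1 hs
  have hex : ∃ n, derivedSeries H n = ⊥ := ⟨n, hn⟩
  have h0 : Nat.find hex ≠ 0 := by
    intro h0
    have h1 := Nat.find_spec hex
    rw [h0, derivedSeries_zero] at h1
    exact top_ne_bot h1
  obtain ⟨k, hk⟩ := Nat.exists_eq_succ_of_ne_zero h0
  have hA : derivedSeries H k ≠ ⊥ := fun h1 => Nat.find_min hex (by omega) h1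
  set A := derivedSeries H k with hAdef
  have hcomm : ∀ v ∈ A, ∀ w ∈ A, Commute v w := by
    intro v hv w hw
    have h1 := Subgroup.commutator_mem_commutator hv hw
    have h2 : ⁅A, A⁆ = ⊥ := by
      have := Nat.find_spec hex
      rwa [hk, derivedSeries_succ] at this
    rw [h2, Subgroup.mem_bot] at h1
    exact commutatorElement_eq_one_iff_mul_comm.1 h1
  haveI := derivedSeries_normal H k
  have hcard : 1 < Nat.card A := (Subgroup.one_lt_card_iff_ne_bot A).2 hA
  obtain ⟨r, hr, hrd⟩ := Nat.exists_prime_and_dvd (n := Nat.card A) (by omega)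
  haveI := Fact.mk hr
  obtain ⟨x, hx⟩ := exists_prime_orderOf_dvd_card' (G := A) r hrd
  let V : Subgroup H :=
    { carrier := {v | v ∈ A ∧ v ^ r = 1}
      one_mem' := ⟨A.one_mem, one_pow r⟩
      mul_mem' := fun {v w} hv hw =>
        ⟨A.mul_mem hv.1 hw.1, by rw [(hcomm v hv.1 w hw.1).mul_pow, hv.2, hw.2, one_mul]⟩
      inv_mem' := fun {v} hv => ⟨A.inv_mem hv.1, by rw [inv_pow, hv.2, inv_one]⟩ }
  refine ⟨r, V, hr, ⟨fun v hv g => ⟨Subgroup.Normal.conj_mem inferInstance v hv.1 g, ?_⟩⟩, ?_,
    fun v hv w hw => hcomm v hv.1 w hw.1, fun v hv => hv.2⟩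
  · rw [conj_pow, hv.2, mul_one, mul_inv_cancel]
  · intro hbot
    have hxV : (x : H) ∈ V :=
      ⟨x.2, by rw [← SubgroupClass.coe_pow, ← hx, pow_orderOf_eq_one, OneMemClass.coe_one]⟩
    rw [hbot, Subgroup.mem_bot] at hxV
    have : x = 1 := Subtype.ext hxV
    rw [this, orderOf_one] at hx
    exact hr.one_lt.ne hx

/-- Simultaneous splitting of an odd abelian group under four commuting involutions. -/
theorem commute_of_eigen {H : Type u} [Group H] {V : Subgroup H} [V.Normal] {r : ℕ} (hr : Odd r)
    (hcomm : ∀ v ∈ V, ∀ w ∈ V, Commute v w) (hexp : ∀ v ∈ V, v ^ r = 1) {x : H} (u : ℕ → H)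
    (hu2 : ∀ i, u i * u i = 1) {n : ℕ}
    (huu : ∀ i, i < n → ∀ j, j < n → Commute (u i) (u j))
    (base : ∀ v ∈ V, (∀ i < n, u i * v * u i = v ∨ u i * v * u i = v⁻¹) → Commute x v) :
    ∀ v ∈ V, Commute x v := by
  suffices H : ∀ k, k ≤ n → ∀ v ∈ V,
      (∀ i < n - k, u i * v * u i = v ∨ u i * v * u i = v⁻¹) → Commute x v from
    fun v hv => H n le_rfl v hv (fun i hi => absurd hi (by omega))
  intro k
  induction k with
  | zero => exact fun _ v hv he => base v hv (by simpa using he)
  | succ k ih =>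
    intro hk v hv he
    set m := n - (k + 1) with hm
    have hm' : n - k = m + 1 := by omega
    have hmn : m < n := by omega
    obtain ⟨q, hq⟩ := hr
    set f : H → H := fun z => u m * z * u m with hf
    have hfinv : ∀ z, f (f z) = z := fun z => by
      simp only [hf]
      rw [show u m * (u m * z * u m) * u m = (u m * u m) * z * (u m * u m) by group, hu2,
        one_mul, mul_one]
    have hfmul : ∀ y z, f (y * z) = f y * f z := fun y z => by
      simp only [hf]
      rw [show u m * y * u m * (u m * z * u m) = u m * y * (u m * u m) * z * u m by group, hu2,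
        mul_one]
      group
    have hfone : f 1 = 1 := by simp only [hf, mul_one]; exact hu2 m
    have hfi : ∀ z, f z⁻¹ = (f z)⁻¹ := fun z => by
      refine eq_inv_of_mul_eq_one_left ?_
      rw [← hfmul, inv_mul_cancel, hfone]
    have hfpow : ∀ z (j : ℕ), f (z ^ j) = f z ^ j := fun z j => by
      induction j with
      | zero => simpa using hfone
      | succ j ihj => rw [pow_succ, pow_succ, hfmul, ihj]
    have hfV : ∀ z ∈ V, f z ∈ V := fun z hz => by
      have := Subgroup.Normal.conj_mem inferInstance z hz (u m)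
      rwa [inv_eq_of_mul_eq_one_right (hu2 m)] at this
    have hv' := hfV v hv
    set vp := (v * f v) ^ (q + 1) with hvp
    set vm := (v * (f v)⁻¹) ^ (q + 1) with hvm
    have hprod : vp * vm = v := by
      rw [hvp, hvm, ← (hcomm _ (V.mul_mem hv hv') _ (V.mul_mem hv (V.inv_mem hv'))).mul_pow]
      rw [show v * f v * (v * (f v)⁻¹) = v * (f v * v) * (f v)⁻¹ by group,
        (hcomm _ hv' _ hv).eq,
        show v * (v * f v) * (f v)⁻¹ = v ^ 2 by rw [pow_two]; group, ← pow_mul,
        show 2 * (q + 1) = r + 1 by omega, pow_succ, hexp v hv, one_mul]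
    have hfp : f vp = vp := by
      rw [hvp, hfpow, hfmul, hfinv, (hcomm _ hv' _ hv).eq]
    have hfm : f vm = vm⁻¹ := by
      rw [hvm, hfpow, hfmul, hfi, hfinv, ← inv_pow, mul_inv_rev, inv_inv]
    have hother : ∀ i < m, ∀ e : Bool,
        let w := if e then vp else vm
        u i * w * u i = w ∨ u i * w * u i = w⁻¹ := by
      intro i hi e
      have hui : ∀ z, u i * f z * u i = f (u i * z * u i) := fun z => by
        simp only [hf]
        have hc := huu i (by omega) m hmn
        calc u i * (u m * z * u m) * u i = (u i * u m) * z * (u m * u i) := by group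
          _ = (u m * u i) * z * (u i * u m) := by rw [hc.eq]
          _ = u m * (u i * z * u i) * u m := by group
      have gmul : ∀ y z, u i * (y * z) * u i = (u i * y * u i) * (u i * z * u i) := fun y z => by
        rw [show u i * y * u i * (u i * z * u i) = u i * y * (u i * u i) * z * u i by group, hu2,
          mul_one]
        group
      have gone : u i * 1 * u i = 1 := by rw [mul_one, hu2]
      have gpow : ∀ z (j : ℕ), u i * z ^ j * u i = (u i * z * u i) ^ j := fun z j => by
        induction j with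
        | zero => simpa using gone
        | succ j ihj => rw [pow_succ, pow_succ, gmul, ihj]
      have ginv : ∀ z, u i * z⁻¹ * u i = (u i * z * u i)⁻¹ := fun z => by
        refine eq_inv_of_mul_eq_one_left ?_
        rw [← gmul, inv_mul_cancel, gone]
      have hinv : ∀ y ∈ V, ∀ z ∈ V, (y * z)⁻¹ = y⁻¹ * z⁻¹ := fun y hy z hz => by
        rw [mul_inv_rev, (hcomm _ (V.inv_mem hz) _ (V.inv_mem hy)).eq]
      have hinv1 := hinv v hv (f v) hv'
      have hinv2 := hinv v hv (f v)⁻¹ (V.inv_mem hv')
      rcases he i hi with h1 | h1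
      · left
        cases e
        · simp only [Bool.false_eq_true, if_false]
          rw [hvm, gpow, gmul, ginv, hui, h1]
        · simp only [if_true]
          rw [hvp, gpow, gmul, hui, h1]
      · right
        cases e
        · simp only [Bool.false_eq_true, if_false]
          rw [hvm, gpow, gmul, ginv, hui, h1, hfi, ← inv_pow, hinv2]
        · simp only [if_true]
          rw [hvp, gpow, gmul, hui, h1, hfi, ← inv_pow, hinv1]
    have c1 : Commute x vp := ih (by omega) vp (V.pow_mem (V.mul_mem hv hv') _) (fun i hi => by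
      rcases Nat.lt_or_ge i m with h1 | h1
      · simpa using hother i h1 true
      · rw [show i = m by omega]; exact Or.inl hfp)
    have c2 : Commute x vm :=
      ih (by omega) vm (V.pow_mem (V.mul_mem hv (V.inv_mem hv')) _) (fun i hi => by
        rcases Nat.lt_or_ge i m with h1 | h1
        · simpa using hother i h1 false
        · rw [show i = m by omega]; exact Or.inr hfm)
    rw [← hprod]
    exact c1.mul_right c2

theorem assoc4 {H : Type u} [Group H] (a b c d : H) : a * (b * c * d) = a * b * c * d := by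
  group

theorem conj_inv_of_sq {H : Type u} [Group H] {z : H} (hz : z * z = 1) (v : H) :
    z * v⁻¹ * z = (z * v * z)⁻¹ := by
  rw [mul_inv_rev, mul_inv_rev, inv_eq_of_mul_eq_one_right hz, mul_assoc]

section main

variable {H : Type u} [Group H] {p : ℕ} {D : Set H}

theorem mk_eq_of_mul_mem {N : Subgroup H} [N.Normal] {a b : H} (ha : a * a = 1)
    (hab : a * b ∈ N) : (QuotientGroup.mk a : H ⧸ N) = QuotientGroup.mk b := by
  rw [QuotientGroup.eq, inv_eq_of_mul_eq_one_right ha]
  exact hab

/-- The images of non-commuting members do not commute unless their product lies in `N`. -/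
theorem Ctx.mk_not_commute (h : Ctx p D) {N : Subgroup H} [N.Normal] {a b : H} (ha : a ∈ D)
    (hb : b ∈ D) (hc : ¬ Commute a b) (hN : a * b ∉ N) :
    ¬ Commute (QuotientGroup.mk a : H ⧸ N) (QuotientGroup.mk b) := by
  intro hcm
  apply hN
  rw [← QuotientGroup.eq_one_iff, QuotientGroup.mk_mul]
  refine eq_one_of_pow_prime_of_pow_ne h.prime (fun hd => ?_) ?_ ((commute_iff_sq ?_ ?_).1 hcm)
  · have := Nat.le_of_dvd two_pos hd; have := h.five; omega
  · rw [← QuotientGroup.mk_mul, ← QuotientGroup.mk_pow, h.pow_eq ha hb hc, QuotientGroup.mk_one]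
  · rw [← QuotientGroup.mk_mul, h.sq a ha, QuotientGroup.mk_one]
  · rw [← QuotientGroup.mk_mul, h.sq b hb, QuotientGroup.mk_one]

/-- In a solvable group, the product of distinct commuting members having a common non-commuting
member lies in a normal `2`-subgroup. -/
theorem ab_mem_two_normal : ∀ (n : ℕ) (H : Type u) [Group H] [Finite H] (D : Set H) (p : ℕ),
    Nat.card H = n → Group.IsSolvable H → Ctx p D → ∀ a ∈ D, ∀ b ∈ D, ∀ c ∈ D, a ≠ b →
      Commute a b → ¬ Commute c a → ¬ Commute c b →
      ∃ N : Subgroup H, N.Normal ∧ IsPGroup 2 ↥N ∧ a * b ∈ N := by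
  intro n
  induction n using Nat.strong_induction_on with
  | _ n IH =>
  intro H _ _ D p hn hs h a ha b hb c hc hne hab hca hcb
  haveI := hs
  haveI : Fact (Nat.Prime 2) := ⟨Nat.prime_two⟩
  haveI : Nontrivial H := ⟨a, b, hne⟩
  have quot : ∀ (N : Subgroup H) [N.Normal], N ≠ ⊥ → a * b ∉ N → c * a ∉ N → c * b ∉ N →
      ∃ M : Subgroup H, M.Normal ∧ N ≤ M ∧ a * b ∈ M ∧
        ∃ M' : Subgroup (H ⧸ N), IsPGroup 2 ↥M' ∧ M = M'.comap (QuotientGroup.mk' N) := by
    intro N _ hN h1 h2 h3
    have hlt : Nat.card (H ⧸ N) < n := by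
      rw [← hn, Subgroup.card_eq_card_quotient_mul_card_subgroup N]
      exact lt_mul_of_one_lt_right Nat.card_pos ((Subgroup.one_lt_card_iff_ne_bot N).2 hN)
    have hmem : ∀ d e : H, d ∈ D → e ∈ D → ¬ Commute d e → d * e ∉ N → d ∉ N := by
      intro d e hd he hde hN' hdN
      exact h.mk_not_commute hd he hde hN'
        (by rw [(QuotientGroup.eq_one_iff d).2 hdN]; exact Commute.one_left _)
    have haN : a ∉ N := by
      refine hmem a c ha hc (fun hh => hca hh.symm) fun hh => h2 ?_
      have := N.inv_mem hh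
      rwa [mul_inv_rev, h.inv ha, h.inv hc] at this
    have hbN : b ∉ N := by
      refine hmem b c hb hc (fun hh => hcb hh.symm) fun hh => h3 ?_
      have := N.inv_mem hh
      rwa [mul_inv_rev, h.inv hb, h.inv hc] at this
    obtain ⟨M', hM'n, hM'2, hM'm⟩ := IH _ hlt (H ⧸ N) _ p rfl
      (Group.isSolvable_of_surjective (QuotientGroup.mk'_surjective N)) (h.quotient N)
      _ (h.image_mem ha haN) _ (h.image_mem hb hbN) _ (h.image_mem hc (hmem c a hc ha hca h2))
      (fun heq => h1 (by
        rw [QuotientGroup.eq, h.inv ha] at heq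
        exact heq))
      (hab.map (QuotientGroup.mk' N)) (h.mk_not_commute hc ha hca h2)
      (h.mk_not_commute hc hb hcb h3)
    refine ⟨M'.comap (QuotientGroup.mk' N), hM'n.comap _, fun z hz => ?_, ?_, M', hM'2, rfl⟩
    · rw [Subgroup.mem_comap, QuotientGroup.mk'_apply, (QuotientGroup.eq_one_iff z).2 hz]
      exact M'.one_mem
    · rw [Subgroup.mem_comap, map_mul]
      exact hM'm
  by_cases hO : ∃ N : Subgroup H, N.Normal ∧ IsPGroup 2 ↥N ∧ N ≠ ⊥
  · obtain ⟨N, hNn, hN2, hN⟩ := hO
    by_cases h1 : a * b ∈ N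
    · exact ⟨N, hNn, hN2, h1⟩
    haveI := hNn
    obtain ⟨M, hMn, _, hMab, M', hM'2, hM⟩ := quot N hN h1
      (fun hh => h.mul_ne_one hc ha hca (h.eq_one_of_two hN2 hh (h.pow_eq hc ha hca)))
      (fun hh => h.mul_ne_one hc hb hcb (h.eq_one_of_two hN2 hh (h.pow_eq hc hb hcb)))
    refine ⟨M, hMn, ?_, hMab⟩
    rw [hM]
    exact hM'2.comap_of_ker_isPGroup _ (by rw [QuotientGroup.ker_mk']; exact hN2)
  push Not at hO
  exfalso
  obtain ⟨r, V, hr, hVn, hV, hVc, hVe⟩ := exists_normal_exponent_prime hs
  have hr2 : r ≠ 2 := by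
    rintro rfl
    exact hV (hO V hVn fun v => ⟨1, Subtype.ext (by simpa using hVe v v.2)⟩)
  have hrodd : Odd r := hr.odd_of_ne_two hr2
  set u := a * b with hu
  have hu2 : u * u = 1 := by
    rw [← pow_two]; exact (commute_iff_sq (h.sq a ha) (h.sq b hb)).1 hab
  have hu1 : u ≠ 1 := fun h1 => hne (by
    rw [hu, mul_eq_one_iff_eq_inv, h.inv hb] at h1; exact h1)
  have huV : u ∉ V := by
    intro hh
    exact hu1 (eq_one_of_pow_prime_of_pow_ne Nat.prime_two
      (fun hd => hr2 ((Nat.prime_dvd_prime_iff_eq Nat.prime_two hr).1 hd).symm)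
      (by rw [pow_two]; exact hu2) (hVe u hh))
  have hp2 : ∀ {z : H}, z ^ p = 1 → z * z = 1 → z = 1 := fun {z} h1 h2 =>
    eq_one_of_pow_prime_of_pow_ne Nat.prime_two
      (fun hd => Nat.not_even_iff_odd.2 h.odd (even_iff_two_dvd.2 hd))
      (by rw [pow_two]; exact h2) h1
  have hcaV : c * a ∉ V := by
    intro hh
    apply huV
    have e : c * b = c * a * u := by rw [hu, ← mul_assoc, mul_assoc c a a, h.sq a ha, mul_one]
    have h1 : (QuotientGroup.mk u : H ⧸ V) ^ p = 1 := by
      have h2 := congrArg (QuotientGroup.mk' V) (h.pow_eq hc hb hcb)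
      rw [e, map_pow, map_mul, map_one] at h2
      simpa [(QuotientGroup.eq_one_iff (c * a)).2 hh] using h2
    rw [← QuotientGroup.eq_one_iff]
    refine eq_one_of_pow_prime_of_pow_ne Nat.prime_two
      (fun hd => Nat.not_even_iff_odd.2 h.odd (even_iff_two_dvd.2 hd)) ?_ h1
    rw [pow_two, ← QuotientGroup.mk_mul, hu2, QuotientGroup.mk_one]
  have hcbV : c * b ∉ V := by
    intro hh
    apply huV
    have e : c * a = c * b * u := by
      rw [hu, hab.eq, ← mul_assoc, mul_assoc c b b, h.sq b hb, mul_one]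
    have h1 : (QuotientGroup.mk u : H ⧸ V) ^ p = 1 := by
      have h2 := congrArg (QuotientGroup.mk' V) (h.pow_eq hc ha hca)
      rw [e, map_pow, map_mul, map_one] at h2
      simpa [(QuotientGroup.eq_one_iff (c * b)).2 hh] using h2
    rw [← QuotientGroup.eq_one_iff]
    refine eq_one_of_pow_prime_of_pow_ne Nat.prime_two
      (fun hd => Nat.not_even_iff_odd.2 h.odd (even_iff_two_dvd.2 hd)) ?_ h1
    rw [pow_two, ← QuotientGroup.mk_mul, hu2, QuotientGroup.mk_one]
  haveI := hVn
  obtain ⟨Q, hQn, hVQ, huQ, M', hM'2, hQM⟩ := quot V hV huV hcaV hcbV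
  -- elements of order dividing `p` in `Q` lie in `V`
  have hQp : ∀ z ∈ Q, z ^ p = 1 → z ∈ V := by
    intro z hz hzp
    rw [hQM, Subgroup.mem_comap] at hz
    rw [← QuotientGroup.eq_one_iff]
    exact (h.quotient V).eq_one_of_two hM'2 hz (by rw [← QuotientGroup.mk_pow, hzp, QuotientGroup.mk_one])
  set x := c * a with hx
  have hxp : x ^ p = 1 := h.pow_eq hc ha hca
  have hxi : a * x * a⁻¹ = x⁻¹ := by
    rw [hx, mul_inv_rev, h.inv ha, h.inv hc, mul_assoc a (c * a), mul_assoc c a a, h.sq a ha,
      mul_one]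
  have hax : ∀ k : ℕ, a * x ^ k = (x ^ k)⁻¹ * a := by
    intro k
    have h1 : a * x ^ k * a⁻¹ = (x ^ k)⁻¹ := by rw [← conj_pow, hxi, inv_pow]
    rw [← h1, inv_mul_cancel_right]
  set U : ℕ → H := fun i => x ^ i * u * (x ^ i)⁻¹ with hU
  set R : ℕ → H := fun k => x ^ k * a with hR
  have hU0 : U 0 = u := by simp [hU]
  have hUQ : ∀ i, U i ∈ Q := fun i => hQn.conj_mem u huQ _
  have hU2 : ∀ i, U i * U i = 1 := fun i => by
    simp only [hU]
    rw [show x ^ i * u * (x ^ i)⁻¹ * (x ^ i * u * (x ^ i)⁻¹) = x ^ i * (u * u) * (x ^ i)⁻¹ by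
      group, hu2, mul_one, mul_inv_cancel]
  have hR2 : ∀ k, R k * R k = 1 := fun k => by
    simp only [hR]
    rw [mul_assoc, ← mul_assoc a, hax, mul_assoc, h.sq a ha, mul_one, mul_inv_cancel]
  have hRD : ∀ k, R k ∈ D := by
    intro k
    induction k using Nat.twoStepInduction with
    | zero => simpa [hR] using ha
    | one => simpa [hR, hx, mul_assoc, h.sq a ha] using hc
    | more k ih _ =>
      have := h.conj x _ ih
      convert this using 1
      simp only [hR]
      have e1 : a * x⁻¹ = x * a := by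
        have := hax 1
        rw [pow_one] at this
        calc a * x⁻¹ = x * (x⁻¹ * a) * x⁻¹ := by group
          _ = x * (a * x) * x⁻¹ := by rw [this]
          _ = x * a := by group
      rw [mul_assoc, mul_assoc (x ^ k), e1, ← mul_assoc, ← mul_assoc, ← pow_succ', ← pow_succ]
  have hau : a * u = u * a := by
    rw [hu]
    calc a * (a * b) = a * (b * a) := by rw [hab.eq]
      _ = a * b * a := by group
  have hRU : ∀ i j, R (i + j) * U i * R (i + j) = U j := by
    intro i j
    simp only [hR, hU]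
    calc x ^ (i + j) * a * (x ^ i * u * (x ^ i)⁻¹) * (x ^ (i + j) * a)
        = x ^ (i + j) * (a * x ^ i) * u * ((x ^ i)⁻¹ * x ^ (i + j)) * a := by group
      _ = x ^ (i + j) * ((x ^ i)⁻¹ * a) * u * x ^ j * a := by
          rw [hax, pow_add, inv_mul_cancel_left]
      _ = x ^ j * (a * u) * x ^ j * a := by
          rw [show i + j = j + i by omega, pow_add]; group
      _ = x ^ j * u * (a * x ^ j) * a := by rw [hau]; group
      _ = x ^ j * u * ((x ^ j)⁻¹ * a) * a := by rw [hax]
      _ = x ^ j * u * (x ^ j)⁻¹ := by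
          rw [mul_assoc _ _ a, mul_assoc _ a a, h.sq a ha, mul_one]
  have hxj : ∀ j, ¬ p ∣ j → ∃ s : ℕ, (x ^ j) ^ s = x := by
    intro j hj
    refine ⟨(Nat.exists_mul_mod_eq_one_of_coprime
      ((h.prime.coprime_iff_not_dvd.2 hj).symm) h.prime.one_lt).choose, ?_⟩
    obtain ⟨_, hs'⟩ := (Nat.exists_mul_mod_eq_one_of_coprime
      ((h.prime.coprime_iff_not_dvd.2 hj).symm) h.prime.one_lt).choose_spec
    rw [← pow_mul, pow_eq_pow_mod _ hxp, hs', pow_one]
  have hne' : ∀ j, ¬ p ∣ j → (QuotientGroup.mk (U j) : H ⧸ V) ≠ QuotientGroup.mk u := by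
    intro j hj heq
    have hcom : Commute (QuotientGroup.mk' V (x ^ j)) (QuotientGroup.mk' V u) := by
      have h1 : QuotientGroup.mk' V (x ^ j * u * (x ^ j)⁻¹) = QuotientGroup.mk' V u := heq
      rw [map_mul, map_mul, map_inv, mul_inv_eq_iff_eq_mul] at h1
      exact h1
    obtain ⟨s, hs'⟩ := hxj j hj
    have hcx : Commute (QuotientGroup.mk' V x) (QuotientGroup.mk' V u) := by
      conv_lhs => rw [← hs', map_pow]
      exact hcom.pow_left s
    apply huV
    rw [← QuotientGroup.eq_one_iff]
    have e : c * b = x * u := by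
      rw [hx, hu, ← mul_assoc, mul_assoc c a a, h.sq a ha, mul_one]
    have h2 := congrArg (QuotientGroup.mk' V) (h.pow_eq hc hb hcb)
    rw [e, map_pow, map_mul, hcx.mul_pow, ← map_pow, hxp, map_one, one_mul] at h2
    refine eq_one_of_pow_prime_of_pow_ne Nat.prime_two
      (fun hd => Nat.not_even_iff_odd.2 h.odd (even_iff_two_dvd.2 hd)) ?_ h2
    rw [pow_two, ← QuotientGroup.mk_mul, hu2, QuotientGroup.mk_one]
  have hwV : ∀ j, ¬ p ∣ j → U j * u ∉ V := fun j hj hh =>
    hne' j hj (mk_eq_of_mul_mem (hU2 j) hh)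
  have hcom0 : ∀ j, Commute (U j) u := by
    intro j
    by_cases hj : p ∣ j
    · obtain ⟨t, rfl⟩ := hj
      simp [hU, pow_mul, hxp]
    have e : R j * (u * R j * u) = U j * u := by
      have := hRU 0 j
      rw [hU0, zero_add] at this
      exact (assoc4 _ _ _ _).trans (congrArg (· * u) this)
    have hcm : Commute (R j) (u * R j * u) := by
      by_contra hcm
      exact hwV j hj (hQp _ (Q.mul_mem (hUQ j) huQ)
        (by rw [← e]; exact h.pow_eq (hRD j) (h.conj' u hu2 (hRD j)) hcm))
    have h2 := (commute_iff_sq (hR2 j) (h.sq _ (h.conj' u hu2 (hRD j)))).1 hcm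
    rw [e] at h2
    exact (commute_iff_sq (hU2 j) hu2).2 h2
  have hUU : ∀ i j, Commute (U i) (U j) := by
    intro i j
    wlog hij : i ≤ j generalizing i j
    · exact (this j i (by omega)).symm
    obtain ⟨k, rfl⟩ := Nat.exists_eq_add_of_le hij
    have h1 := ((commute_conj_iff (x ^ i)).2 (hcom0 k)).symm
    convert h1 using 1
    simp only [hU, pow_add]
    group
  -- a pair whose product fixes `v`: both members fix `v`
  have hfix : ∀ a' ∈ D, ∀ b' ∈ D, Commute a' b' → a' * b' ∉ V → ∀ v ∈ V,
      (a' * b') * v * (a' * b') = v → a' * v * a' = v := by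
    intro a' ha' b' hb' hab' hnV v hv hfv
    have hua : a' * (a' * b') = a' * b' * a' := by
      rw [mul_assoc a' b' a', hab'.eq]
    have hu' : a' * b' * (a' * b') = 1 := by
      rw [← pow_two]; exact (commute_iff_sq (h.sq a' ha') (h.sq b' hb')).1 hab'
    set y := v⁻¹ * (a' * v * a') with hy
    have hyV : y ∈ V := V.mul_mem (V.inv_mem hv) (by
      have := hVn.conj_mem v hv a'
      rwa [h.inv ha'] at this)
    have hcy : Commute y (a' * b') := by
      have hcv : Commute v (a' * b') := by
        have h1 := congrArg (· * (a' * b')) hfv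
        simp only [mul_assoc] at h1
        rw [← mul_assoc a' b' (a' * b'), hu', mul_one] at h1
        exact (by simpa [Commute, SemiconjBy, mul_assoc] using h1.symm : Commute v (a' * b'))
      have hca' : Commute a' (a' * b') := hua
      exact hcv.inv_left.mul_left ((hca'.mul_left hcv).mul_left hca')
    set a'' := v⁻¹ * a' * v with ha''
    have ha''D : a'' ∈ D := by simpa [ha''] using h.conj v⁻¹ a' ha'
    have e : a'' * b' = y * (a' * b') := by
      rw [ha'', hy]
      rw [show v⁻¹ * (a' * v * a') * (a' * b') = v⁻¹ * a' * v * (a' * a') * b' by group,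
        h.sq a' ha', mul_one]
    have hy1 : y = 1 := by
      by_cases hc' : Commute a'' b'
      · have h2 := (commute_iff_sq (h.sq _ ha''D) (h.sq b' hb')).1 hc'
        rw [e, hcy.mul_pow, pow_two (a' * b'), hu', mul_one] at h2
        exact eq_one_of_pow_prime_of_pow_ne Nat.prime_two
          (fun hd => hr2 ((Nat.prime_dvd_prime_iff_eq Nat.prime_two hr).1 hd).symm) h2 (hVe y hyV)
      · exfalso
        have h2 := h.pow_eq ha''D hb' hc'
        rw [e, hcy.mul_pow] at h2
        apply hnV
        obtain ⟨m, hm⟩ := h.odd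
        have hup : (a' * b') ^ p = a' * b' := by
          rw [hm, pow_succ, pow_mul, pow_two, hu', one_pow, one_mul]
        rw [hup, mul_eq_one_iff_eq_inv'] at h2
        rw [h2]
        exact V.inv_mem (V.pow_mem hyV _)
    rw [hy, inv_mul_eq_one] at hy1
    exact hy1.symm
  -- `x` centralises `V`
  have hxV : ∀ v ∈ V, Commute x v := by
    refine commute_of_eigen hrodd hVc hVe U hU2 (n := 4) (fun i _ j _ => hUU i j) ?_
    intro v hv he
    have hpos : ∀ i, U i * v * U i = v → R (2 * i) * v * R (2 * i) = v := by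
      intro i hi
      have e1 : x ^ i * a * (x ^ i)⁻¹ = R (2 * i) := by
        have e0 : a * (x ^ i)⁻¹ = x ^ i * a := by
          calc a * (x ^ i)⁻¹ = x ^ i * ((x ^ i)⁻¹ * a) * (x ^ i)⁻¹ := by group
            _ = x ^ i * (a * x ^ i) * (x ^ i)⁻¹ := by rw [hax]
            _ = x ^ i * a := by group
        rw [mul_assoc, e0, ← mul_assoc, ← pow_add, ← two_mul]
      rw [← e1]
      have e2 : x ^ i * a * (x ^ i)⁻¹ * (x ^ i * b * (x ^ i)⁻¹) = U i := by
        simp only [hU, hu]; group
      refine hfix _ (h.conj _ a ha) _ (h.conj _ b hb) ((commute_conj_iff _).2 hab) ?_ v hv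
        (by rw [e2]; exact hi)
      rw [e2]
      intro hh
      apply huV
      have h1 := hVn.conj_mem _ hh (x ^ i)⁻¹
      have e3 : (x ^ i)⁻¹ * U i * ((x ^ i)⁻¹)⁻¹ = u := by simp only [hU]; group
      rwa [e3] at h1
    have hneg : ∀ i j, i < j → j < 4 → U i * v * U i = v⁻¹ → U j * v * U j = v⁻¹ →
        R (i + j) * v * R (i + j) = v := by
      intro i j hij hj4 hi hj
      have hjw : ¬ p ∣ (j - i) := fun hd => by
        have := Nat.le_of_dvd (by omega) hd; have := h.five; omega
      have e : R (i + j) * (U i * R (i + j) * U i) = U j * U i :=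
        (assoc4 _ _ _ _).trans (congrArg (· * U i) (hRU i j))
      refine hfix (R (i + j)) (hRD _) (U i * R (i + j) * U i) (h.conj' _ (hU2 i) (hRD _)) ?_ ?_ v hv ?_
      · rw [commute_iff_sq (hR2 _) (h.sq _ (h.conj' _ (hU2 i) (hRD _))), e,
          (hUU j i).mul_pow, pow_two, pow_two, hU2, hU2, one_mul]
      · rw [e]
        intro hh
        apply hwV (j - i) hjw
        have h1 := hVn.conj_mem _ hh (x ^ i)⁻¹
        have e3 : (x ^ i)⁻¹ * (U j * U i) * ((x ^ i)⁻¹)⁻¹ = U (j - i) * u := by
          obtain ⟨k, rfl⟩ := Nat.exists_eq_add_of_le hij.le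
          simp only [hU, Nat.add_sub_cancel_left, pow_add]
          group
        rwa [e3] at h1
      · rw [e]
        calc U j * U i * v * (U j * U i) = U j * (U i * v * (U j * U i)) := by group
          _ = U j * (U i * v * (U i * U j)) := by rw [(hUU j i).eq]
          _ = U j * (U i * v * U i) * U j := by group
          _ = U j * v⁻¹ * U j := by rw [hi]
          _ = (U j * v * U j)⁻¹ := conj_inv_of_sq (hU2 j) v
          _ = v := by rw [hj, inv_inv]
    have htwo : ∀ k l, k < l → l ≤ k + 6 → ¬ p ∣ (l - k) →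
        R k * v * R k = v → R l * v * R l = v → Commute x v := by
      intro k l hkl hl hd h1 h2
      have hc1 : Commute (R k) v := by
        have := congrArg (· * R k) h1
        simpa [Commute, SemiconjBy, mul_assoc, hR2] using this
      have hc2 : Commute (R l) v := by
        have := congrArg (· * R l) h2
        simpa [Commute, SemiconjBy, mul_assoc, hR2] using this
      have hc3 : Commute (x ^ (l - k)) v := by
        have hh := hc2.mul_left hc1
        have e : R l * R k = x ^ (l - k) := by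
          simp only [hR]
          rw [mul_assoc, ← mul_assoc a, hax, mul_assoc ((x ^ k)⁻¹), h.sq a ha, mul_one,
            pow_sub _ hkl.le]
        rwa [e] at hh
      obtain ⟨s, hs'⟩ := hxj _ hd
      rw [← hs']
      exact hc3.pow_left s
    have hnd' : ∀ d, 0 < d → d ≤ 4 → ¬ p ∣ d := fun d h0 h1 hpd => by
      have := Nat.le_of_dvd h0 hpd; have := h.five; omega
    have P2 : ∀ i k, i < k → k < 4 → U i * v * U i = v → U k * v * U k = v → Commute x v :=
      fun i k hik hk hi' hk' => htwo (2 * i) (2 * k) (by omega) (by omega)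
        (fun hd => by
          rcases (h.prime.dvd_mul (m := 2) (n := k - i)).1
            (by rwa [Nat.mul_sub]) with h1 | h1
          · exact hnd' 2 two_pos (by norm_num) h1
          · exact hnd' _ (by omega) (by omega) h1)
        (hpos i hi') (hpos k hk')
    have P3 : ∀ i j k, i < j → j < k → k < 4 → U i * v * U i = v⁻¹ → U j * v * U j = v⁻¹ →
        U k * v * U k = v⁻¹ → Commute x v := fun i j k hij hjk hk hi' hj' hk' =>
      htwo (i + j) (i + k) (by omega) (by omega) (fun hd => hnd' _ (by omega) (by omega) hd)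
        (hneg i j hij (by omega) hi' hj') (hneg i k (by omega) hk hi' hk')
    rcases he 0 (by norm_num) with e0 | e0 <;> rcases he 1 (by norm_num) with e1 | e1 <;>
      rcases he 2 (by norm_num) with e2 | e2 <;> rcases he 3 (by norm_num) with e3 | e3 <;>
      first
        | exact P2 0 1 (by norm_num) (by norm_num) e0 e1
        | exact P2 0 2 (by norm_num) (by norm_num) e0 e2
        | exact P2 0 3 (by norm_num) (by norm_num) e0 e3
        | exact P2 1 2 (by norm_num) (by norm_num) e1 e2
        | exact P2 1 3 (by norm_num) (by norm_num) e1 e3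
        | exact P2 2 3 (by norm_num) (by norm_num) e2 e3
        | exact P3 0 1 2 (by norm_num) (by norm_num) (by norm_num) e0 e1 e2
        | exact P3 0 1 3 (by norm_num) (by norm_num) (by norm_num) e0 e1 e3
        | exact P3 0 2 3 (by norm_num) (by norm_num) (by norm_num) e0 e2 e3
        | exact P3 1 2 3 (by norm_num) (by norm_num) (by norm_num) e1 e2 e3
  -- the involution `U 1 * u` centralises `V`
  set g := U 1 * u with hg
  have hgV : g ∉ V := hwV 1 (fun hd => h.prime.one_lt.ne' (Nat.dvd_one.1 hd))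
  have hgc : ∀ v ∈ V, Commute g v := by
    intro v hv
    have h1 : u * v * u ∈ V := by
      have := hVn.conj_mem v hv u
      rwa [inv_eq_of_mul_eq_one_right hu2] at this
    have h2 : U 1 * v * U 1 = u * v * u := by
      have hUi : U 1 = x * u * x⁻¹ := by simp [hU]
      calc U 1 * v * U 1 = x * u * (x⁻¹ * v * x) * u * x⁻¹ := by rw [hUi]; group
        _ = x * (u * v * u) * x⁻¹ := by
            rw [mul_assoc x⁻¹, ← (hxV v hv).eq, inv_mul_cancel_left]; group
        _ = u * v * u := by rw [(hxV _ h1).eq, mul_inv_cancel_right]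
    show g * v = v * g
    have h3 : g * v * g = v := by
      calc g * v * g = U 1 * u * v * (U 1 * u) := rfl
        _ = U 1 * (u * v * (U 1 * u)) := by group
        _ = U 1 * (u * v * (u * U 1)) := by rw [(hcom0 1).eq]
        _ = U 1 * (u * v * u) * U 1 := by group
        _ = U 1 * (U 1 * v * U 1) * U 1 := by rw [h2]
        _ = v := by
            rw [show U 1 * (U 1 * v * U 1) * U 1 = (U 1 * U 1) * v * (U 1 * U 1) by group, hU2,
              one_mul, mul_one]
    have hg2 : g * g = 1 := by
      rw [← pow_two, hg, (hcom0 1).mul_pow, pow_two, pow_two, hU2, hu2, one_mul]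
    calc g * v = g * v * (g * g) := by rw [hg2, mul_one]
      _ = g * v * g * g := by group
      _ = v * g := by rw [h3]
  haveI := hVn
  haveI := hQn
  set C := Q ⊓ Subgroup.centralizer (V : Set H) with hC
  haveI hCn : C.Normal := inferInstance
  have hgC : g ∈ C := ⟨Q.mul_mem (hUQ 1) huQ, fun v hv => (hgc v hv).symm.eq⟩
  have hnil : Group.IsNilpotent ↥C := by
    let f : ↥C →* ↥M' := MonoidHom.codRestrict ((QuotientGroup.mk' V).comp C.subtype) M'
      (fun z => by
        have hz : (z : H) ∈ Q := z.2.1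
        rw [hQM] at hz
        exact hz)
    haveI : Group.IsNilpotent ↥M' := hM'2.isNilpotent
    refine Subgroup.isNilpotent_of_ker_le_center f ?_
    intro z hz
    rw [Subgroup.mem_center_iff]
    intro w
    have hzV : (z : H) ∈ V := by
      have hz' := congrArg Subtype.val (MonoidHom.mem_ker.1 hz)
      exact (QuotientGroup.eq_one_iff _).1 hz'
    exact Subtype.ext (w.2.2 (z : H) hzV).symm
  have hg2 : g * g = 1 := by
    rw [← pow_two, hg, (hcom0 1).mul_pow, pow_two, pow_two, hU2, hu2, one_mul]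
  have hP : IsPGroup 2 ↥(Subgroup.zpowers (⟨g, hgC⟩ : ↥C)) := by
    refine IsPGroup.of_card (n := 1) ?_
    rw [pow_one, Nat.card_zpowers]
    exact orderOf_eq_prime (Subtype.ext (by simpa [pow_two] using hg2))
      (fun h1 => hgV (by rw [show g = 1 from congrArg Subtype.val h1]; exact V.one_mem))
  obtain ⟨T, hT⟩ := hP.exists_le_sylow
  haveI hTn : (T : Subgroup ↥C).Normal :=
    T.normal_of_normalizerCondition Group.normalizerCondition_of_isNilpotent
  haveI : (T : Subgroup ↥C).Characteristic := T.characteristic_of_normal hTn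
  have hbot := hO ((T : Subgroup ↥C).map C.subtype) inferInstance (T.isPGroup'.map _)
  have hgT : g ∈ (T : Subgroup ↥C).map C.subtype :=
    ⟨⟨g, hgC⟩, hT (Subgroup.mem_zpowers _), rfl⟩
  rw [hbot, Subgroup.mem_bot] at hgT
  exact hgV (hgT ▸ V.one_mem)

end main

/-- Relative form: for a solvable subgroup `K`. -/
theorem exists_two_sub {G : Type u} [Group G] [Finite G] {p : ℕ} {D : Set G} (h : Ctx p D)
    {K : Subgroup G} (hK : Group.IsSolvable ↥K) {a b c : G} (ha : a ∈ D) (hb : b ∈ D) (hc : c ∈ D)
    (haK : a ∈ K) (hbK : b ∈ K) (hcK : c ∈ K) (hne : a ≠ b) (hab : Commute a b)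
    (hca : ¬ Commute c a) (hcb : ¬ Commute c b) :
    ∃ N : Subgroup G, IsPGroup 2 ↥N ∧ a * b ∈ N ∧ ∀ k ∈ K, ∀ n ∈ N, k * n * k⁻¹ ∈ N := by
  obtain ⟨N, hNn, hN2, hNm⟩ := ab_mem_two_normal _ (↥K) _ p rfl hK (h.restrict K)
    ⟨a, haK⟩ ha ⟨b, hbK⟩ hb ⟨c, hcK⟩ hc (fun e => hne (congrArg Subtype.val e))
    (Subtype.ext hab) (fun e => hca (congrArg Subtype.val e.eq))
    (fun e => hcb (congrArg Subtype.val e.eq))
  refine ⟨N.map K.subtype, hN2.map _, ⟨_, hNm, rfl⟩, ?_⟩
  rintro k hk _ ⟨n, hn, rfl⟩
  exact ⟨⟨k, hk⟩ * n * ⟨k, hk⟩⁻¹, hNn.conj_mem n hn _, rfl⟩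

end Cfsg.Agent.TwoPInvol
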