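import Cfsg.Agent.Lib.TwoPInvol.NoComm
import Cfsg.Agent.Lib.Solvable.Basic

/-!
# Minimal counterexample: basic lemmas (owner: helper81)

`Min p D`: `D` generates, is one class, the solvable radical is trivial and all proper subgroups generated by members of
`D` are solvable.  `Tw D a b`: `a`, `b` commute with the same members of `D`.
-/

set_option autoImplicit false
set_option linter.unusedSectionVars false
set_option linter.style.haveILetI false

namespace Cfsg.Agent.TwoPInvol

variable {G : Type*} [Group G] {p : ℕ} {D : Set G}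

/-- A minimal counterexample. -/
structure Min {G : Type*} [Group G] (p : ℕ) (D : Set G) : Prop where
  ctx : Ctx p D
  gen : Subgroup.closure D = ⊤
  rad : ∀ N : Subgroup G, N.Normal → Group.IsSolvable ↥N → N = ⊥
  sub : ∀ s : Set G, s ⊆ D → Subgroup.closure s ≠ ⊤ → Group.IsSolvable ↥(Subgroup.closure s)
  single : ∀ a ∈ D, ∀ b ∈ D, ∃ g : G, g * a * g⁻¹ = b

/-- `a` and `b` commute with the same members of `D`. -/
def Tw (D : Set G) (a b : G) : Prop := ∀ d ∈ D, (Commute a d ↔ Commute b d)

/-- Two distinct commuting members which are not twins. -/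
def Edge (D : Set G) (a b : G) : Prop := a ∈ D ∧ b ∈ D ∧ Commute a b ∧ ¬ Tw D a b

theorem Tw.refl (a : G) : Tw D a a := fun _ _ => Iff.rfl

theorem Tw.symm {a b : G} (h : Tw D a b) : Tw D b a := fun d hd => (h d hd).symm

theorem Tw.trans {a b c : G} (h : Tw D a b) (h' : Tw D b c) : Tw D a c :=
  fun d hd => (h d hd).trans (h' d hd)

theorem Tw.comm {a b : G} (h : Tw D a b) (hb : b ∈ D) : Commute a b :=
  (h b hb).2 (Commute.refl b)

theorem Edge.symm {a b : G} (h : Edge D a b) : Edge D b a :=
  ⟨h.2.1, h.1, h.2.2.1.symm, fun t => h.2.2.2 t.symm⟩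

theorem Edge.ne {a b : G} (h : Edge D a b) : a ≠ b := fun e => h.2.2.2 (e ▸ Tw.refl a)

/-- Conjugation by an involution, written without inverse. -/
theorem conj_invol {g : G} (hg : g * g = 1) (a : G) : g * a * g⁻¹ = g * a * g := by
  rw [inv_eq_of_mul_eq_one_right hg]

theorem commute_conj_invol_iff {g : G} (hg : g * g = 1) {a b : G} :
    Commute (g * a * g) (g * b * g) ↔ Commute a b := by
  rw [← conj_invol hg, ← conj_invol hg, commute_conj_iff]

theorem conj_fix {g a : G} (hg : g * g = 1) (hc : Commute g a) : g * a * g = a := by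
  rw [hc.eq, mul_assoc, hg, mul_one]

theorem conj_conj_invol {g : G} (hg : g * g = 1) (a : G) : g * (g * a * g) * g = a := by
  rw [show g * (g * a * g) * g = (g * g) * a * (g * g) by group, hg, one_mul, mul_one]

theorem commute_of_conj_fix {g a : G} (hg : g * g = 1) (hc : g * a * g = a) : Commute g a := by
  show g * a = a * g
  calc g * a = g * a * (g * g) := by rw [hg, mul_one]
    _ = g * a * g * g := by group
    _ = a * g := by rw [hc]

/-- Product of commuting involutions is an involution. -/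
theorem mul_sq_one {a b : G} (ha : a * a = 1) (hb : b * b = 1) (hab : Commute a b) :
    a * b * (a * b) = 1 := by
  rw [← pow_two]; exact (commute_iff_sq ha hb).1 hab

namespace Ctx

variable (h : Ctx p D)
include h

theorem tw_conj {a b : G} (g : G) (ht : Tw D a b) : Tw D (g * a * g⁻¹) (g * b * g⁻¹) := by
  intro d hd
  have e : d = g * (g⁻¹ * d * g) * g⁻¹ := by group
  rw [e, commute_conj_iff, commute_conj_iff]
  exact ht _ (by simpa using h.conj g⁻¹ d hd)

theorem tw_conj_iff {a b : G} (g : G) : Tw D (g * a * g⁻¹) (g * b * g⁻¹) ↔ Tw D a b := by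
  refine ⟨fun ht => ?_, h.tw_conj g⟩
  have := h.tw_conj g⁻¹ ht
  convert this using 1 <;> group

theorem tw_conj' {a b g : G} (hg : g * g = 1) (ht : Tw D a b) :
    Tw D (g * a * g) (g * b * g) := by
  rw [← conj_invol hg, ← conj_invol hg]; exact h.tw_conj g ht

theorem edge_conj {a b : G} (g : G) (he : Edge D a b) : Edge D (g * a * g⁻¹) (g * b * g⁻¹) :=
  ⟨h.conj g a he.1, h.conj g b he.2.1, (commute_conj_iff g).2 he.2.2.1,
    fun t => he.2.2.2 ((h.tw_conj_iff g).1 t)⟩

/-- A member not commuting with `b` does not commute with its conjugate by `b`. -/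
theorem not_comm_conj {f b : G} (hf : f ∈ D) (hb : b ∈ D) (hc : ¬ Commute f b) :
    ¬ Commute f (b * f * b) := by
  intro h1
  have h2 := (commute_iff_sq (h.sq f hf) (h.sq _ (h.conjD hb hf))).1 h1
  rw [show f * (b * f * b) = (f * b) ^ 2 by rw [pow_two]; group, ← pow_mul] at h2
  refine h.mul_ne_one hf hb hc (eq_one_of_pow_prime_of_pow_ne h.prime (fun hd => ?_)
    (h.pow_eq hf hb hc) h2)
  have := Nat.le_of_dvd (by norm_num) hd
  have := h.five
  omega

/-- In a `2`-subgroup normalised by `a`, `b`, `q`: members congruent modulo it commute with the same members. -/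
theorem same_set {N : Subgroup G} (hN : IsPGroup 2 ↥N) {a b q : G} (ha : a ∈ D) (hb : b ∈ D)
    (hq : q ∈ D) (hab : a * b ∈ N) (hna : ∀ n ∈ N, a * n * a⁻¹ ∈ N)
    (hnq : ∀ n ∈ N, q * n * q⁻¹ ∈ N) (hc : Commute a q) : Commute b q := by
  by_contra hbq
  have e : (b * q) ^ 2 = (a * (a * b) * a⁻¹) * (q * (a * b) * q⁻¹) := by
    rw [h.inv ha, h.inv hq]
    have hb' : b = a * (a * b) := by rw [← mul_assoc, h.sq a ha, one_mul]
    calc (b * q) ^ 2 = b * q * (b * q) := pow_two _
      _ = a * (a * b) * q * (a * (a * b) * q) := by rw [← hb']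
      _ = a * (a * b) * (q * a) * (a * b) * q := by group
      _ = a * (a * b) * (a * q) * (a * b) * q := by rw [hc.eq]
      _ = _ := by group
  have h1 : ((b * q) ^ 2) ^ p = 1 := by rw [← pow_mul, mul_comm, pow_mul, h.pow_eq hb hq hbq, one_pow]
  have h2 := h.eq_one_of_two hN (x := (b * q) ^ 2) (by rw [e]; exact N.mul_mem (hna _ hab) (hnq _ hab)) h1
  exact hbq ((commute_iff_sq (h.sq b hb) (h.sq q hq)).2 h2)

end Ctx

namespace Min

variable (h : Min p D)
include h

theorem center_eq_bot : Subgroup.center G = ⊥ :=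
  h.rad _ inferInstance (Group.isSolvable_of_comm fun a b => Subtype.ext
    ((Subgroup.mem_center_iff.1 b.2) a))

/-- Members commuting with a non-trivial element generate a solvable subgroup. -/
theorem solvable_of_comm {s : Set G} (hs : s ⊆ D) {z : G} (hz : z ≠ 1)
    (hc : ∀ x ∈ s, Commute x z) : Group.IsSolvable ↥(Subgroup.closure s) := by
  refine h.sub s hs fun htop => hz ?_
  have hle : Subgroup.closure s ≤ Subgroup.centralizer ({z} : Set G) :=
    (Subgroup.closure_le _).2 fun x hx => Subgroup.mem_centralizer_singleton_iff.2 (hc x hx).eq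
  rw [htop] at hle
  rw [← Subgroup.mem_bot, ← h.center_eq_bot, Subgroup.mem_center_iff]
  exact fun g => Subgroup.mem_centralizer_singleton_iff.1 (hle (Subgroup.mem_top g))

/-- A set invariant under conjugation by all members of `D` is invariant under the group. -/
theorem invariant_of_gen [Finite G] {M : Set G} (hM : ∀ g ∈ D, ∀ y ∈ M, g * y * g ∈ M) :
    ∀ g : G, ∀ y ∈ M, g * y * g⁻¹ ∈ M := by
  intro g
  have hg : g ∈ Subgroup.closure D := by rw [h.gen]; exact Subgroup.mem_top g
  refine Subgroup.closure_induction (p := fun g _ => ∀ y ∈ M, g * y * g⁻¹ ∈ M)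
    (fun g hg y hy => by rw [h.ctx.inv hg]; exact hM g hg y hy) (fun y hy => by simpa using hy)
    (fun a b _ _ iha ihb y hy => by
      have := iha _ (ihb y hy)
      rwa [show a * b * y * (a * b)⁻¹ = a * (b * y * b⁻¹) * a⁻¹ by group])
    (fun a _ iha y hy => ?_) hg
  have hp : ∀ k : ℕ, ∀ y ∈ M, a ^ k * y * (a ^ k)⁻¹ ∈ M := by
    intro k
    induction k with
    | zero => intro y hy; simpa using hy
    | succ k ih =>
      intro y hy
      have := iha _ (ih y hy)
      rwa [pow_succ', show a * a ^ k * y * (a * a ^ k)⁻¹ = a * (a ^ k * y * (a ^ k)⁻¹) * a⁻¹ by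
        group]
  have := hp (orderOf a - 1) y hy
  rwa [show a ^ (orderOf a - 1) = a⁻¹ from eq_inv_of_mul_eq_one_left (by
    rw [← pow_succ, show orderOf a - 1 + 1 = orderOf a from by
      have := orderOf_pos a; omega, pow_orderOf_eq_one])] at this

variable [Finite G]

/-- Decomposition lemma: no non-empty proper part of `D` commutes with the rest. -/
theorem split {M : Set G} (hMD : M ⊆ D) {a : G} (ha : a ∈ M)
    (hout : ∀ d ∈ D, d ∉ M → ∀ y ∈ M, Commute d y) : ∀ d ∈ D, d ∈ M := by
  have hgen : ∀ g ∈ D, ∀ y ∈ M, g * y * g ∈ M := by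
    intro g hg y hy
    by_cases hgM : g ∈ M
    · by_contra hn
      apply hn
      have h1 := hout _ (h.ctx.conjD hg (hMD hy)) hn g hgM
      have h2 := conj_fix (h.ctx.sq g hg) h1.symm
      rw [conj_conj_invol (h.ctx.sq g hg)] at h2
      rw [← h2]; exact hy
    · rw [conj_fix (h.ctx.sq g hg) (hout g hg hgM y hy)]; exact hy
  intro d hd
  obtain ⟨g, rfl⟩ := h.single a (hMD ha) d hd
  exact h.invariant_of_gen hgen g a ha

/-- A vertex whose neighbourhood contains another one's is a twin of it. -/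
theorem tw_of_subset {a b : G} (ha : a ∈ D) (hb : b ∈ D)
    (hsub : ∀ d ∈ D, Commute a d → Commute b d) : Tw D a b := by
  obtain ⟨g, hg⟩ := h.single b hb a ha
  have hle : {d | d ∈ D ∧ Commute b d}.ncard ≤ {d | d ∈ D ∧ Commute a d}.ncard := by
    refine Set.ncard_le_ncard_of_injOn (fun d => g * d * g⁻¹) (fun d hd => ?_)
      (fun x _ y _ e => by simpa using e) (Set.toFinite _)
    exact ⟨h.ctx.conj g d hd.1, by rw [← hg, commute_conj_iff]; exact hd.2⟩
  have heq := Set.eq_of_subset_of_ncard_le (s := {d | d ∈ D ∧ Commute a d})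
    (t := {d | d ∈ D ∧ Commute b d}) (fun d hd => ⟨hd.1, hsub d hd.1 hd.2⟩) hle (Set.toFinite _)
  intro d hd
  exact ⟨fun hh => hsub d hd hh, fun hh => (heq ▸ (⟨hd, hh⟩ : d ∈ {d | d ∈ D ∧ Commute b d}) :
    d ∈ {d | d ∈ D ∧ Commute a d}).2⟩

theorem exists_not_comm {a b : G} (ha : a ∈ D) (hb : b ∈ D) (hab : ¬ Tw D a b) :
    ∃ d ∈ D, Commute a d ∧ ¬ Commute b d := by
  by_contra! hc
  exact hab (h.tw_of_subset ha hb hc)

/-- Members congruent modulo a `2`-normal subgroup of a solvable `D`-subgroup. -/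
theorem same {a b c q z : G} (ha : a ∈ D) (hb : b ∈ D) (hc : c ∈ D) (hq : q ∈ D)
    (hne : a ≠ b) (hab : Commute a b) (hca : ¬ Commute c a) (hcb : ¬ Commute c b) (hz : z ≠ 1)
    (za : Commute a z) (zb : Commute b z) (zc : Commute c z) (zq : Commute q z) :
    Commute a q → Commute b q := by
  intro haq
  set s : Set G := {a, b, c, q}
  have hs : s ⊆ D := by rintro x (rfl | rfl | rfl | rfl) <;> assumption
  have hsol := h.solvable_of_comm hs hz (by rintro x (rfl | rfl | rfl | rfl) <;> assumption)
  obtain ⟨N, hN, hm, hn⟩ := exists_two_sub h.ctx hsol ha hb hc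
    (Subgroup.subset_closure (by simp [s])) (Subgroup.subset_closure (by simp [s]))
    (Subgroup.subset_closure (by simp [s])) hne hab hca hcb
  exact h.ctx.same_set hN ha hb hq hm (hn a (Subgroup.subset_closure (by simp [s])))
    (hn q (Subgroup.subset_closure (by simp [s]))) haq

/-- The product of distinct commuting members with a common non-commuting member, all commuting with
some `z ≠ 1`, is not in `D`. -/
theorem prod_not_mem {a b c z : G} (ha : a ∈ D) (hb : b ∈ D) (hc : c ∈ D) (hne : a ≠ b)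
    (hab : Commute a b) (hca : ¬ Commute c a) (hcb : ¬ Commute c b) (hz : z ≠ 1)
    (za : Commute a z) (zb : Commute b z) (zc : Commute c z) : a * b ∉ D := by
  intro hu
  set s : Set G := {a, b, c}
  have hs : s ⊆ D := by rintro x (rfl | rfl | rfl) <;> assumption
  have hsol := h.solvable_of_comm hs hz (by rintro x (rfl | rfl | rfl) <;> assumption)
  obtain ⟨N, hN, hm, hn⟩ := exists_two_sub h.ctx hsol ha hb hc
    (Subgroup.subset_closure (by simp [s])) (Subgroup.subset_closure (by simp [s]))
    (Subgroup.subset_closure (by simp [s])) hne hab hca hcb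
  have hnc : ¬ Commute c (a * b) := fun hh => hca (h.ctx.cd ha hb hc hne hab hh).1
  have h1 : (c * (a * b)) ^ 2 ∈ N := by
    rw [pow_two, ← mul_assoc]
    refine N.mul_mem ?_ hm
    have := hn c (Subgroup.subset_closure (by simp [s])) _ hm
    rwa [h.ctx.inv hc] at this
  refine hnc ((commute_iff_sq (h.ctx.sq c hc) (h.ctx.sq _ hu)).2 (h.ctx.eq_one_of_two hN h1 ?_))
  rw [← pow_mul, mul_comm, pow_mul, h.ctx.pow_eq hc hu hnc, one_pow]

/-- Key lemma: a member commuting with neither of `a`, `b` commutes with its conjugate by `a * b`. -/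
theorem key {a b c : G} (ha : a ∈ D) (hb : b ∈ D) (hc : c ∈ D) (hne : a ≠ b) (hab : Commute a b)
    (hu : a * b ∉ D) (hca : ¬ Commute c a) (hcb : ¬ Commute c b) :
    Commute c ((a * b) * c * (a * b)) := by
  set u := a * b with hudef
  have hu2 : u * u = 1 := mul_sq_one (h.ctx.sq a ha) (h.ctx.sq b hb) hab
  have hc2 := h.ctx.sq c hc
  by_contra hn
  have hp := h.ctx.pow_eq hc (h.ctx.conj' u hu2 hc) hn
  rw [show c * (u * c * u) = (c * u) ^ 2 by rw [pow_two]; group, ← pow_mul] at hp
  set i := (c * u) ^ p with hi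
  have hi2 : i * i = 1 := by rw [hi, ← pow_add, ← two_mul]; exact hp
  have hinv : (u * c) ^ p = i := by
    have : (u * c) ^ p = i⁻¹ := by
      rw [hi, ← inv_pow, mul_inv_rev, inv_eq_of_mul_eq_one_right hc2, inv_eq_of_mul_eq_one_right hu2]
    rw [this, inv_eq_of_mul_eq_one_right hi2]
  have hiu : Commute i u := by
    have hs : SemiconjBy u ((c * u) ^ p) ((u * c) ^ p) :=
      SemiconjBy.pow_right (show u * (c * u) = u * c * u by group) p
    rw [hinv] at hs
    exact (show Commute u i from hs).symm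
  have hic : Commute i c := by
    have hs : SemiconjBy c ((c * u) ^ p) ((u * c) ^ p) := SemiconjBy.pow_right
      (show c * (c * u) = u * c * c by
        rw [← mul_assoc, hc2, one_mul, mul_assoc u c c, hc2, mul_one]) p
    rw [hinv] at hs
    exact (show Commute c i from hs).symm
  set e := i * u with he
  have heD : e ∈ D := by
    obtain ⟨m, hm⟩ := h.ctx.odd
    have h1 := h.ctx.conj ((c * u) ^ m) c hc
    have h2 : (c * u) ^ m * c * ((c * u) ^ m)⁻¹ = e := by
      have hs : SemiconjBy c ((u * c) ^ m) ((c * u) ^ m) :=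
        SemiconjBy.pow_right (show c * (u * c) = c * u * c by group) m
      have h3 : ((c * u) ^ m)⁻¹ = (u * c) ^ m := by
        rw [← inv_pow, mul_inv_rev, inv_eq_of_mul_eq_one_right hc2,
          inv_eq_of_mul_eq_one_right hu2]
      have h4 : (c * u) ^ (m + m) * (c * u) = i := by
        rw [← pow_succ, hi, show m + m + 1 = p by omega]
      calc (c * u) ^ m * c * ((c * u) ^ m)⁻¹ = (c * u) ^ m * (c * (u * c) ^ m) := by
            rw [h3, mul_assoc]
        _ = (c * u) ^ (m + m) * c := by rw [hs.eq, ← mul_assoc, ← pow_add]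
        _ = (c * u) ^ (m + m) * (c * u) * u := by
            rw [mul_assoc _ (c * u), mul_assoc c u u, hu2, mul_one]
        _ = e := by rw [h4]
    rwa [h2] at h1
  have heu : Commute e u := hiu.mul_left (Commute.refl u)
  obtain ⟨hea, heb⟩ := h.ctx.cd ha hb heD hne hab heu
  have hie : i = e * u := by rw [he, mul_assoc, hu2, mul_one]
  have hia : Commute i a := by
    rw [hie, hudef]
    exact hea.mul_left ((Commute.refl a).mul_left hab.symm)
  have hib : Commute i b := by
    rw [hie, hudef]
    exact heb.mul_left (hab.mul_left (Commute.refl b))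
  have hi1 : i ≠ 1 := fun h1 => hu (by rw [show u = e by rw [he, h1, one_mul]]; exact heD)
  set s : Set G := {a, b, c}
  have hs : s ⊆ D := by rintro x (rfl | rfl | rfl) <;> assumption
  have hsol := h.solvable_of_comm hs hi1 (by
    rintro x (rfl | rfl | rfl)
    exacts [hia.symm, hib.symm, hic.symm])
  obtain ⟨N, hN, hm, hn'⟩ := exists_two_sub h.ctx hsol ha hb hc
    (Subgroup.subset_closure (by simp [s])) (Subgroup.subset_closure (by simp [s]))
    (Subgroup.subset_closure (by simp [s])) hne hab hca hcb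
  have hmem : (c * u) ^ 2 ∈ N := by
    have := hn' c (Subgroup.subset_closure (by simp [s])) _ hm
    rw [h.ctx.inv hc] at this
    rw [pow_two, ← mul_assoc]
    exact N.mul_mem this hm
  have h1 := h.ctx.eq_one_of_two hN hmem (by rw [← pow_mul]; exact hp)
  apply hn
  rw [commute_iff_sq hc2 (h.ctx.sq _ (h.ctx.conj' u hu2 hc)),
    show c * (u * c * u) = (c * u) ^ 2 by rw [pow_two]; group, h1, one_pow]

theorem key_ne {a b c : G} (ha : a ∈ D) (hb : b ∈ D) (hc : c ∈ D) (hne : a ≠ b)
    (hab : Commute a b) (hca : ¬ Commute c a) : (a * b) * c * (a * b) ≠ c := fun e =>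
  hca (h.ctx.cd ha hb hc hne hab
    (commute_of_conj_fix (mul_sq_one (h.ctx.sq a ha) (h.ctx.sq b hb) hab) e).symm).1

/-- An element commuting with the product of distinct twins fixes the twin class. -/
theorem conj_twin {a a' v : G} (ha : a ∈ D) (ha' : a' ∈ D) (hne : a ≠ a') (ht : Tw D a a')
    (hv : Commute v (a * a')) : Tw D a (v * a * v⁻¹) := by
  refine h.tw_of_subset ha (h.ctx.conj v a ha) fun d hd hda => ?_
  have hdu : Commute d (a * a') := hda.symm.mul_right ((ht d hd).1 hda).symm
  have hd' : v⁻¹ * d * v ∈ D := by simpa using h.ctx.conj v⁻¹ d hd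
  have h1 : Commute (v⁻¹ * d * v) (a * a') := (hv.inv_left.mul_left hdu).mul_left hv
  have h2 := (h.ctx.cd ha ha' hd' hne (ht.comm ha') h1).1.symm
  have h3 := (commute_conj_iff v).2 h2
  rwa [show v * (v⁻¹ * d * v) * v⁻¹ = d by group] at h3

/-- A non-trivial product of two members in an invariant set generating a proper subgroup cannot fix all
classes of an invariant equivalence relation. -/
theorem kernel_absurd (R : G → G → Prop) (hrefl : ∀ x, R x x) (hsymm : ∀ x y, R x y → R y x)
    (htrans : ∀ x y z, R x y → R y z → R x z)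
    (hconj : ∀ g x y, R x y → R (g * x * g⁻¹) (g * y * g⁻¹))
    {a b : G} (ha : a ∈ D) (hb : b ∈ D) (hne : a ≠ b) (hRb : R a b)
    (hK : Subgroup.closure {x | x ∈ D ∧ R a x} ≠ ⊤)
    (hfix : ∀ x ∈ D, R x ((a * b) * x * (a * b)⁻¹)) : False := by
  set B := {x | x ∈ D ∧ R a x} with hB
  set K := Subgroup.closure B with hKdef
  have hKs := h.sub B (fun x hx => hx.1) hK
  let N1 : Subgroup G :=
    { carrier := {g | ∀ x ∈ D, R x (g * x * g⁻¹)}
      one_mem' := fun x _ => by simpa using hrefl x
      mul_mem' := fun {g g'} hg hg' x hx => by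
        refine htrans _ _ _ (hg' x hx) ?_
        have := hg _ (h.ctx.conj g' x hx)
        rwa [show g * g' * x * (g * g')⁻¹ = g * (g' * x * g'⁻¹) * g⁻¹ by group]
      inv_mem' := fun {g} hg x hx => by
        have := hg _ (h.ctx.conj g⁻¹ x hx)
        rw [show g * (g⁻¹ * x * g⁻¹⁻¹) * g⁻¹ = x by group] at this
        exact hsymm _ _ this }
  haveI hN1 : N1.Normal := ⟨fun g hg k x hx => by
    have := hconj k _ _ (hg _ (h.ctx.conj k⁻¹ x hx))
    rwa [show k * (k⁻¹ * x * k⁻¹⁻¹) * k⁻¹ = x by group,
      show k * (g * (k⁻¹ * x * k⁻¹⁻¹) * g⁻¹) * k⁻¹ = k * g * k⁻¹ * x * (k * g * k⁻¹)⁻¹ by group]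
      at this⟩
  have hu : a * b ∈ N1 := hfix
  set M : Subgroup ↥N1 := K.subgroupOf N1 with hM
  have hMs : Group.IsSolvable ↥M := by
    haveI := hKs
    exact Group.isSolvable_of_isSolvable_injective
      (f := (N1.subtype.comp M.subtype).codRestrict K fun z => z.2)
      (fun x y e => Subtype.ext (Subtype.ext (congrArg Subtype.val e :)))
  haveI hMn : M.Normal := ⟨fun z hz g => by
    show (g : G) * (z : G) * (g : G)⁻¹ ∈ K
    have hle : K ≤ K.comap (MulAut.conj (g : G)).toMonoidHom := by
      rw [hKdef, Subgroup.closure_le]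
      rintro x ⟨hx, hxR⟩
      exact Subgroup.subset_closure ⟨h.ctx.conj g x hx, htrans _ _ _ hxR (g.2 x hx)⟩
    exact hle hz⟩
  classical
  obtain ⟨S, hS, hmax⟩ := Set.exists_max_image
    {S : Subgroup ↥N1 | S.Normal ∧ Group.IsSolvable ↥S} (fun S => Nat.card S) (Set.toFinite _)
    ⟨M, hMn, hMs⟩
  haveI := hS.1
  have huniq : ∀ T : Subgroup ↥N1, T.Normal → Group.IsSolvable ↥T → T ≤ S := by
    intro T hT hTs
    haveI := hT
    haveI := hTs
    haveI := hS.2
    have hsup : Group.IsSolvable ↥(T ⊔ S) := Cfsg.Agent.Solvable.isSolvable_sup T S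
    have heq : S = T ⊔ S :=
      Subgroup.eq_of_le_of_card_ge le_sup_right (hmax _ ⟨inferInstance, hsup⟩)
    exact heq ▸ le_sup_left
  haveI hSc : S.Characteristic := by
    rw [Subgroup.characteristic_iff_map_le]
    intro φ
    haveI := hS.2
    exact huniq _ (Subgroup.Normal.map hS.1 _ φ.surjective)
      (Group.isSolvable_of_surjective (φ.toMonoidHom.subgroupMap_surjective S))
  have hbot : S.map N1.subtype = ⊥ := by
    refine h.rad _ inferInstance ?_
    haveI := hS.2
    exact Group.isSolvable_of_surjective (N1.subtype.subgroupMap_surjective S)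
  have huS : (⟨a * b, hu⟩ : ↥N1) ∈ S := huniq M hMn hMs
    (show a * b ∈ K from K.mul_mem (Subgroup.subset_closure ⟨ha, hrefl a⟩)
      (Subgroup.subset_closure ⟨hb, hRb⟩))
  have hm : a * b ∈ S.map N1.subtype := ⟨_, huS, rfl⟩
  rw [hbot, Subgroup.mem_bot, mul_eq_one_iff_eq_inv, h.ctx.inv hb] at hm
  exact hne hm

end Min

end Cfsg.Agent.TwoPInvol
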